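/-
Helper library (helper25 farm, piece A by helper72).
-/
import Cfsg.Agent.Lib.Helper25.P2.Defs
import Cfsg.Agent.Lib.Helper34.BG16e
import Cfsg.Agent.Lib.Helper22.SupLemmas
import Cfsg.Agent.Lib.Helper62.HallCoprime
import Cfsg.Agent.S1429

set_option autoImplicit false
set_option linter.unusedVariables false
set_option linter.unusedSectionVars false
set_option linter.style.haveILetI false

namespace Cfsg.Agent.Lib.Helper25.P2

open Subgroup Cfsg
open Cfsg.Agent.Lib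
open Cfsg.Agent.Lib.Helper24 Cfsg.Agent.Lib.Helper34 Cfsg.Agent.Lib.Helper31.BG11
open Cfsg.Agent.Lib.Helper34.BG13 Cfsg.Agent.Lib.Helper34.BG16

universe u

variable {G : Type u} [Group G] [Finite G]

theorem pA (hG : IsMinSimpleOddOrder G) (R : Rows G) : PA G := by
  intro M K U L c
  have hU := hU_of hG
  have hUM : U ≤ M := c.hKU.compl.1
  have hKM : K ≤ M := c.hKU.hall.1
  have h1 : ∀ r : ℕ, r.Prime → r ∣ Nat.card U → r ∉ sigma M ∧ r ∉ kappa M := by
    intro r hr hd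
    exact ⟨decomp_U_sigma' hG hU c.hM c.hKU r hr hd,
      fun hκ => kappa_not_dvd_card c.hKU hκ (hd.trans (card_dvd_of_le le_sup_left))⟩
  have hidx : ∀ q : ℕ, q.Prime → q ∉ kappa M → q ∉ sigma M → ¬ q ∣ U.relIndex M := by
    intro q hq hκ hσ hd
    rw [Helper23.complIn_relIndex_left c.hKU.compl] at hd
    have h2 : Nat.card (K ⊔ sigmaCore M : Subgroup G) ∣ Nat.card (sigmaCore M) * Nat.card K := by
      rw [sup_comm]; exact Helper22.card_sup_dvd (hKM.trans (sc_norm M))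
    rcases (Nat.Prime.dvd_mul hq).1 (hd.trans h2) with h | h
    · exact hσ (sc_primes M hq h)
    · exact hκ (c.hKU.hall.2.1 q hq h)
  have hHall : IsPiHallOf {q | q.Prime ∧ q ∉ kappa M ∧ q ∉ sigma M} U M :=
    ⟨hUM, fun p hp hd => ⟨hp, (h1 p hp hd).2, (h1 p hp hd).1⟩,
      fun p hp hπ => hidx p hp hπ.2.1 hπ.2.2⟩
  have h2 : IsMulCommutative U := by
    obtain ⟨U₀, hU₀c, hU₀H, -, -⟩ := (R.h1430 M c.hM K c.hKU.hall c.hK1).2.1
    obtain ⟨g, hg, hgU⟩ := Helper62.IsPiHallOf.exists_conj (MS_solvable hG c.hM.1) hU₀H hHall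
    rw [← hgU]
    refine ⟨⟨fun a b => ?_⟩⟩
    obtain ⟨a, ha⟩ := a
    obtain ⟨b, hb⟩ := b
    obtain ⟨a', ha', rfl⟩ := ha
    obtain ⟨b', hb', rfl⟩ := hb
    apply Subtype.ext
    have h := congrArg Subtype.val (hU₀c.is_comm.comm ⟨a', ha'⟩ ⟨b', hb'⟩)
    change a' * b' = b' * a' at h
    change (MulAut.conj g) a' * (MulAut.conj g) b' = (MulAut.conj g) b' * (MulAut.conj g) a'
    rw [← map_mul, ← map_mul, h]
  have hsyl : ∀ r : ℕ, r.Prime → ∀ R₀ : Subgroup G, R₀ ≤ U → r ∣ Nat.card U →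
      ¬ r ∣ R₀.relIndex U → ¬ r ∣ R₀.relIndex M := by
    intro r hr R₀ hRU hrU hi hd
    rw [← relIndex_mul_relIndex R₀ U M hRU hUM] at hd
    rcases (Nat.Prime.dvd_mul hr).1 hd with h | h
    · exact hi h
    · exact hidx r hr (h1 r hr hrU).2 (h1 r hr hrU).1 h
  obtain ⟨r, hr, hrU⟩ : ∃ r : ℕ, r.Prime ∧ r ∣ Nat.card U :=
    Nat.exists_prime_and_dvd (fun h => c.hU1 (Subgroup.card_eq_one.1 h))
  haveI : Fact r.Prime := ⟨hr⟩
  have hR₀ := Sylow.isSylowIn_map (default : Sylow r U)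
  obtain ⟨R₀, hR₀def⟩ : ∃ R₀ : Subgroup G, R₀ = ((default : Sylow r U) : Subgroup U).map U.subtype :=
    ⟨_, rfl⟩
  rw [← hR₀def] at hR₀
  have hR₀M : IsSylowIn r R₀ M :=
    ⟨hR₀.1.trans hUM, hR₀.2.1, hsyl r hr R₀ hR₀.1 hrU hR₀.2.2⟩
  have hrM : r ∣ Nat.card M := hrU.trans (card_dvd_of_le hUM)
  have h29 := Cfsg.Agent.S1429.result hG M c.hM
    (fun h => (h1 r hr hrU).2 (h r hr hrM (h1 r hr hrU).1)) r hrM
    (by
      rintro (h | h)
      · exact (h1 r hr hrU).1 h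
      · exact (h1 r hr hrU).2 h) hR₀M.toSylow
  have e : ((hR₀M.toSylow : Sylow r M) : Subgroup M).map M.subtype = R₀ := by
    rw [hR₀M.coe_toSylow, subgroupOf_map_subtype, inf_of_le_left hR₀M.1]
  rw [e] at h29
  have h4 : sigmaCore M ⊓ centralizer (U : Set G) = ⊥ := by
    rw [eq_bot_iff, ← h29.2.1]
    refine inf_le_inf_left _ (centralizer_le ?_)
    intro x hx
    exact (closure_le U).2 (fun y hy => hR₀.1 hy.1) hx
  refine ⟨h1, h2, h29.2.2, h4, ?_⟩
  intro s hs S hSU hS1 hSp hSi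
  haveI : Fact s.Prime := ⟨hs⟩
  have hsU : s ∣ Nat.card U := by
    rcases hSp.card_eq_or_dvd with h | h
    · exact absurd (Subgroup.card_eq_one.mp h) hS1
    · exact h.trans (Subgroup.card_dvd_of_le hSU)
  refine ⟨hsyl s hs S hSU hsU hSi, ?_⟩
  have hSH : IsPiHallOf {s} S U := by
    refine ⟨hSU, ?_, ?_⟩
    · intro p hp hd
      obtain ⟨n, hn⟩ := IsPGroup.iff_card.1 hSp
      rw [hn] at hd
      exact (Nat.prime_dvd_prime_iff_eq hp hs).1 (hp.dvd_of_dvd_pow hd)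
    · intro p hp hps
      rw [Set.mem_singleton_iff.1 hps]; exact hSi
  have hUN : U ≤ normalizer (S : Set G) := by
    intro u hu
    apply Subgroup.centralizer_le_normalizer (S : Set G)
    rw [mem_centralizer_iff]
    intro x hx
    exact congrArg Subtype.val (h2.is_comm.comm ⟨x, hSU hx⟩ ⟨u, hu⟩)
  have key : ∀ k ∈ K, cj k S ≤ S := by
    intro k hk
    apply le_of_normal_hall hSH hUN
    · rintro _ ⟨x, hx, rfl⟩
      exact (mem_normalizer_iff.1 (c.hKU.normal hk) x).1 (hSU hx)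
    · intro p hp hd
      rw [card_map_conj] at hd
      exact hSH.2.1 p hp hd
  intro k hk
  rw [mem_normalizer_iff]
  intro x
  constructor
  · intro hx
    exact key k hk ⟨x, hx, rfl⟩
  · intro hx
    have := key k⁻¹ (inv_mem hk) ⟨_, hx, rfl⟩
    simpa [MulAut.conj_apply, mul_assoc] using this

end Cfsg.Agent.Lib.Helper25.P2
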