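/-
Helper library (helper25 farm, piece B by helper20): `K`-regularity on `H'_σ` (BG 14.11 set-up).
-/
import Cfsg.Agent.Lib.Helper25.P2.Defs
import Cfsg.Agent.Lib.Helper20.BG146e
import Cfsg.Agent.S1378
import Cfsg.Agent.S1375

set_option autoImplicit false
set_option linter.unusedSimpArgs false
set_option linter.unusedVariables false
set_option linter.style.haveILetI false
set_option linter.unusedSectionVars false

namespace Cfsg.Agent.Lib.Helper25.P2

open Subgroup Cfsg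
open Cfsg.Agent.Lib
open Cfsg.Agent.Lib.Helper24 Cfsg.Agent.Lib.Helper34 Cfsg.Agent.Lib.Helper31.BG11
open Cfsg.Agent.Lib.Helper34.BG13 Cfsg.Agent.Lib.Helper34.BG16 Cfsg.Agent.Lib.Helper10.BG124
open Cfsg.Agent.Lib.Helper20.BG14

universe u

variable {G : Type u} [Group G] [Finite G]

theorem pB (hG : IsMinSimpleOddOrder G) (R : Rows G) : PB G := by
  intro M K U L c K₀ H' hK₀ hK₀p hH' hK₀H hnM hnL
  have h78 : Helper20.BG14.H1378 G := (Cfsg.Agent.S1378.result hG).2
  by_contra hne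
  -- an element of prime order
  obtain ⟨y, hy⟩ := Subgroup.ne_bot_iff_exists_ne_one.mp hne
  have hy1 : (y : G) ≠ 1 := fun h => hy (Subtype.ext h)
  obtain ⟨t, ht, htd⟩ := Nat.exists_prime_and_dvd (n := orderOf (y : G)) (by
    intro h
    exact hy1 (orderOf_eq_one_iff.mp h))
  obtain ⟨m, hm⟩ := htd
  have hpos : 0 < orderOf (y : G) := orderOf_pos _
  have hm0 : m ≠ 0 := by
    rintro rfl
    rw [mul_zero] at hm
    omega
  set x' : G := (y : G) ^ m with hx'def
  have hx'o : orderOf x' = t := by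
    rw [hx'def, orderOf_pow_of_dvd hm0 ⟨t, by rw [hm, mul_comm]⟩, hm]
    exact Nat.mul_div_cancel _ (Nat.pos_of_ne_zero hm0)
  have hx'1 : x' ≠ 1 := by
    intro h
    rw [h, orderOf_one] at hx'o
    exact ht.one_lt.ne hx'o
  have hx'mem : x' ∈ sigmaCore H' ⊓ centralizer (K₀ : Set G) := pow_mem y.2 m
  have htH : t ∈ sigma H' := prime_mem_sigma hx'mem.1 ht (by rw [hx'o])
  -- a generator of `K₀`
  obtain ⟨k, hk, hk1⟩ := exists_ne_one_of_card_prime hK₀p rfl
  have hkK : k ∈ K := hK₀ hk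
  have hkL : k ∈ sigmaCore L := by
    have := c.hKst ▸ hkK
    exact this.1
  have h67 := (R.h1367 M c.hM K U c.hKU c.hK1 L c.hL c.hKst c.hKstH).2 K₀ hK₀ hK₀p
  have hx'L : x' ∈ L := h67.1 hx'mem.2
  have htL : t ∉ sigma L := by
    intro h
    obtain ⟨g, hg⟩ := h78 L H' c.hL hH' ⟨t, h, htH⟩
    exact hnL g hg
  have hx'k : x' ∈ centralizer ({k} : Set G) := by
    rw [Helper20.BG14.mem_centralizer_singleton]
    exact (mem_centralizer_iff.mp hx'mem.2 k hk)
  rcases R.h1432 L c.hL k hkL hk1 x' ⟨hx'L, hx'k⟩ hx'1 (by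
    intro p hp hpd
    rw [hx'o] at hpd
    rw [(Nat.prime_dvd_prime_iff_eq hp ht).mp hpd]
    exact htL) with ⟨hκ, -⟩ | ⟨-, -, hc, huniq⟩
  · have htκ : t ∈ kappa L := hκ t ht (by rw [hx'o])
    have htKs : t ∣ Nat.card (sigmaCore M ⊓ centralizer (K : Set G) : Subgroup G) := by
      have h1 := c.hKstH.2.2 t ht htκ
      have h2 : t ∣ Nat.card L := htκ.2.1
      rw [← Helper23.card_mul_relIndex c.hKstH.1] at h2
      rcases (Nat.Prime.dvd_mul ht).mp h2 with h | h
      · exact h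
      · exact (h1 h).elim
    have htM : t ∈ sigma M :=
      sc_primes M ht (htKs.trans (Subgroup.card_dvd_of_le inf_le_left))
    obtain ⟨g, hg⟩ := h78 M H' c.hM hH' ⟨t, htM, htH⟩
    exact hnM g hg
  · have hnc : ¬ centralizer ({x'} : Set G) ≤ H' := by
      intro h
      have := huniq H' hH' h
      apply hnL 1
      rw [this]
      ext z
      simp
    obtain ⟨N, ⟨hN, hcN⟩, -, -, -, -, hcompl, -⟩ :=
      Cfsg.Agent.S1375.result hG H' hH' x' hx'mem.1 hx'1 hnc
    have hNL : N = L := huniq N hN hcN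
    subst hNL
    have : k ∈ (H' ⊓ N) ⊓ sigmaCore N := ⟨⟨hK₀H hk, sc_le N hkL⟩, hkL⟩
    rw [hcompl.2.2.1, mem_bot] at this
    exact hk1 this

end Cfsg.Agent.Lib.Helper25.P2
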