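/-
Helper library (helper25 farm, piece C by helper72).
-/
import Cfsg.Agent.Lib.Helper25.P2.Defs
import Cfsg.Agent.Lib.Helper34.BG16e

set_option autoImplicit false
set_option linter.unusedVariables false

namespace Cfsg.Agent.Lib.Helper25.P2

open Subgroup Cfsg
open Cfsg.Agent.Lib
open Cfsg.Agent.Lib.Helper24 Cfsg.Agent.Lib.Helper34 Cfsg.Agent.Lib.Helper31.BG11
open Cfsg.Agent.Lib.Helper34.BG13 Cfsg.Agent.Lib.Helper34.BG16

universe u

variable {G : Type u} [Group G] [Finite G]

theorem pC (hG : IsMinSimpleOddOrder G) (R : Rows G) (hA : PA G) (hC0 : PC0 G) : PC G := by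
  intro M K U L c r R₀ H hr hRU hR1 hRp hRi hH hN
  obtain ⟨hA1, hA2, hA3, hA4, hA5⟩ := hA M K U L c
  obtain ⟨hC1, hC2, hC3, hC4⟩ := hC0 M K U L c
  obtain ⟨hRM, hKN⟩ := hA5 r hr R₀ hRU hR1 hRp hRi
  haveI : Fact r.Prime := ⟨hr⟩
  have hUH : U ≤ H := by
    refine le_trans ?_ hN
    intro u hu
    apply Subgroup.centralizer_le_normalizer (R₀ : Set G)
    rw [mem_centralizer_iff]
    intro x hx
    have := hA2.is_comm.comm ⟨x, hRU hx⟩ ⟨u, hu⟩
    exact congrArg Subtype.val this
  have hKH : K ≤ H := hKN.trans hN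
  have hrU : r ∣ Nat.card U := by
    rcases hRp.card_eq_or_dvd with h | h
    · exact absurd (Subgroup.card_eq_one.mp h) hR1
    · exact h.trans (Subgroup.card_dvd_of_le hRU)
  refine { c with hH := hH, hUH := hUH, hKH := hKH, hnM := ?_, hnL := ?_ }
  · intro g hg
    have hRH : R₀ ≤ H := le_normalizer.trans hN
    have hcard : Nat.card H = Nat.card M := by rw [hg]; exact card_map_conj g M
    have hsyl : IsSylowIn r R₀ H := ⟨hRH, hRp, by
      intro hd
      apply hRM
      have h1 := Helper23.card_mul_relIndex hRH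
      have h2 := Helper23.card_mul_relIndex (hRU.trans c.hKU.compl.1)
      rw [hcard, ← h2] at h1
      have := Nat.eq_of_mul_eq_mul_left Nat.card_pos h1
      rwa [← this]⟩
    have : r ∈ sigma H := mem_sigma_iff.2 ⟨hrU.trans (card_dvd_of_le hUH), R₀, hsyl, hN⟩
    rw [hg] at this
    exact (hA1 r hr hrU).1 ((sigma_cj_iff g).1 this)
  · intro g hg
    have h1 : K ⊓ L.map (MulAut.conj g).toMonoidHom ≠ ⊥ := by
      rw [← hg, inf_of_le_left hKH]; exact c.hK1
    have h2 := hC1 g h1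
    apply c.hU1
    rw [eq_bot_iff, ← hC2]
    exact le_inf le_rfl (by rw [← h2, ← hg]; exact hUH)

end Cfsg.Agent.Lib.Helper25.P2
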