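/-
Helper library (helper25 farm, piece C0 by helper72).
-/
import Cfsg.Agent.Lib.Helper25.P2.Defs
import Cfsg.Agent.Lib.Helper34.BG16e

set_option autoImplicit false
set_option linter.unusedVariables false

namespace Cfsg.Agent.Lib.Helper25.P2

open Subgroup Cfsg
open Cfsg.Agent.Lib
open Cfsg.Agent.Lib.Helper24 Cfsg.Agent.Lib.Helper34 Cfsg.Agent.Lib.Helper31.BG11
open Cfsg.Agent.Lib.Helper34.BG13 Cfsg.Agent.Lib.Helper34.BG16

universe u

variable {G : Type u} [Group G] [Finite G]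

theorem pC0 (hG : IsMinSimpleOddOrder G) (R : Rows G) : PC0 G := by
  intro M K U L c
  have hKs1 : sigmaCore M ⊓ centralizer (K : Set G) ≠ ⊥ :=
    (R.h1354 M c.hM K c.hKU.cyclic c.hKU.hall).1
  have hKL : K ≤ sigmaCore L := by
    have h := c.hKst'
    rw [h]; exact inf_le_left
  refine ⟨?_, ?_, ?_, ?_⟩
  · intro g hne
    by_cases hg : g ∈ L
    · exact cj_of_mem hg
    · exfalso
      apply hne
      have h := (R.h1431 L c.hL _ c.hKstH hKs1).1 g hg
      rw [← c.hKst'] at h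
      exact h
  · have h68 := (R.h1368 M c.hM K U c.hKU c.hK1 L c.hL c.hKst c.hKstH).1
    rw [eq_bot_iff, ← c.hKU.compl.2.2.1]
    refine le_inf inf_le_left ?_
    calc U ⊓ L ≤ M ⊓ L := inf_le_inf_right L c.hKU.compl.1
      _ = K ⊔ (sigmaCore M ⊓ centralizer (K : Set G)) := h68
      _ ≤ K ⊔ sigmaCore M := sup_le_sup_left inf_le_left K
  · intro K₀ hK₀ hK₀p
    have h67 := (R.h1367 M c.hM K U c.hKU c.hK1 L c.hL c.hKst c.hKstH).2 K₀ hK₀ hK₀p
    have hK₀1 : K₀ ≠ ⊥ := by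
      rintro rfl
      rw [Subgroup.card_bot] at hK₀p
      exact Nat.not_prime_one hK₀p
    have hK₀t : K₀ ≠ ⊤ := by
      rintro rfl
      exact c.hM.1 (top_le_iff.1 (hK₀.trans c.hKU.hall.1))
    obtain ⟨L', hL', hN⟩ := exists_coatom_ge (MS_normalizer_ne_top hG hK₀1 hK₀t)
    have := h67.2 L' hL' ((Subgroup.centralizer_le_normalizer (K₀ : Set G)).trans hN)
    rw [← this]; exact hN
  · intro p hp hd
    exact sc_primes L hp (hd.trans (Subgroup.card_dvd_of_le hKL))

end Cfsg.Agent.Lib.Helper25.P2
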