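/-
Helper library (helper25 farm, piece D by helper52): `U ≤ H_σ`.
-/
import Cfsg.Agent.Lib.Helper25.P2.Defs
import Cfsg.Agent.Lib.Helper52.BG15b
import Cfsg.Agent.S1353

set_option autoImplicit false
set_option linter.unusedSimpArgs false
set_option linter.unusedVariables false
set_option linter.style.haveILetI false
set_option linter.unusedSectionVars false

namespace Cfsg.Agent.Lib.Helper25.P2

open Subgroup Cfsg
open Cfsg.Agent.Lib
open Cfsg.Agent.Lib.Helper24 Cfsg.Agent.Lib.Helper34 Cfsg.Agent.Lib.Helper31.BG11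
open Cfsg.Agent.Lib.Helper34.BG13 Cfsg.Agent.Lib.Helper34.BG16

universe u

variable {G : Type u} [Group G] [Finite G]

/-- `|K|` is a prime of `σ(L)`, not dividing `|U|`. -/
theorem Cfg.K_facts (hG : IsMinSimpleOddOrder G) {M K U L : Subgroup G} (c : Cfg M K U L) :
    (Nat.card K).Prime ∧ Nat.card K ∈ sigma L ∧ ¬ Nat.card K ∣ Nat.card U ∧ K ≤ sigmaCore L := by
  have hkp := (Cfsg.Agent.S1372.result hG M c.hM K U c.hKU c.hK1 c.hU1).1
  have hKσ : K ≤ sigmaCore L := (le_of_eq c.hKst).trans inf_le_left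
  refine ⟨hkp, sc_primes L hkp (card_dvd_of_le hKσ), ?_, hKσ⟩
  intro hd
  exact kappa_not_dvd_card c.hKU (c.hKU.hall.2.1 _ hkp dvd_rfl)
    (hd.trans (card_dvd_of_le le_sup_left))

theorem pD (hG : IsMinSimpleOddOrder G) (hK : PK G) : PD G := by
  intro M K U L H c
  obtain ⟨hκ, hσ, -, -, -⟩ := hK M K U L H c
  have hU := hU_of hG
  obtain ⟨hkp, hkL, hkU, hKσ⟩ := c.toCfg.K_facts hG
  have hkH : Nat.card K ∉ sigma H := fun h => (hσ _ h).2 hkL
  apply le_sc_of_primes hG hU c.hH c.hUH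
  intro u hu hd
  by_contra huσ
  haveI : Fact u.Prime := ⟨hu⟩
  haveI : Fact (Nat.card K).Prime := ⟨hkp⟩
  have hKp : IsPGroup (Nat.card K) K := IsPGroup.of_card (n := 1) (by rw [pow_one])
  obtain ⟨T, hT, hKT⟩ := exists_inv_sylow hKp hkU c.hKU.normal u
  have hle : K ⊔ T ≤ H := sup_le c.hKH (hT.1.trans c.hUH)
  have hprimes : ∀ r : ℕ, r.Prime → r ∣ Nat.card (K ⊔ T : Subgroup G) → r ∉ sigma H := by
    intro r hr hrd
    have h1 := hrd.trans (Helper1.card_sup_dvd hKT)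
    rcases (Nat.Prime.dvd_mul hr).1 h1 with h | h
    · rwa [(Nat.prime_dvd_prime_iff_eq hr hkp).1 h]
    · obtain ⟨n, hn⟩ := (IsPGroup.iff_card.1 hT.2.1)
      rw [hn] at h
      rwa [(Nat.prime_dvd_prime_iff_eq hr hu).1 (hr.dvd_of_dvd_pow h)]
  obtain ⟨E, hE, hKTE⟩ := exists_compl_ge hG hU c.hH hle hprimes
  have hC : T ⊓ centralizer (K : Set G) = ⊥ := by
    obtain ⟨e, he, he1⟩ := exists_ne_one_of_card_prime hkp rfl
    rw [eq_bot_iff, ← Cfsg.Agent.S1353.result hG M c.hM K U c.hKU e he he1,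
      ← centralizer_eq_of_card_prime hkp rfl he he1]
    exact inf_le_inf_right _ hT.1
  have hne : u ≠ Nat.card K := by
    intro h
    exact hkU (h ▸ hd)
  have hTb := Helper52.BG15.lemmaT hG c.hM c.hKU c.hK1 c.hU1 c.hL c.hKst c.hKstH c.hH hκ hE
    (le_sup_left.trans hKTE) (le_sup_right.trans hKTE) hT.2.1 hne hKT hC
  have h2 := hT.2.2
  rw [hTb, relIndex_bot_left] at h2
  exact h2 hd

end Cfsg.Agent.Lib.Helper25.P2
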