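/-
Helper library (helper25 farm, piece D1 by helper20): a Sylow `s`-subgroup of `U` with `s ∉ σ(H)`
centralizes `H_σ`, and `s ∈ τ₂(H)`.
-/
import Cfsg.Agent.Lib.Helper25.P2.Defs
import Cfsg.Agent.Lib.Helper20.BG146e

set_option autoImplicit false
set_option linter.unusedSimpArgs false
set_option linter.unusedVariables false
set_option linter.style.haveILetI false
set_option linter.unusedSectionVars false

namespace Cfsg.Agent.Lib.Helper25.P2

open Subgroup Cfsg
open Cfsg.Agent.Lib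
open Cfsg.Agent.Lib.Helper24 Cfsg.Agent.Lib.Helper34 Cfsg.Agent.Lib.Helper31.BG11
open Cfsg.Agent.Lib.Helper34.BG13 Cfsg.Agent.Lib.Helper34.BG16 Cfsg.Agent.Lib.Helper10.BG124
open Cfsg.Agent.Lib.Helper20.BG14

universe u

variable {G : Type u} [Group G] [Finite G]

/-- a subgroup of prime order of a nontrivial subgroup -/
theorem exists_prime_sub20 {K : Subgroup G} (hK1 : K ≠ ⊥) :
    ∃ K₀ : Subgroup G, K₀ ≤ K ∧ (Nat.card K₀).Prime := by
  obtain ⟨p, hp, hpd⟩ := Nat.exists_prime_and_dvd (n := Nat.card K) (by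
    intro h
    exact hK1 (Subgroup.card_eq_one.mp h))
  haveI : Fact p.Prime := ⟨hp⟩
  obtain ⟨k, hk⟩ := exists_prime_orderOf_dvd_card' p hpd
  have hko : orderOf (k : G) = p := by rw [Subgroup.orderOf_coe]; exact hk
  exact ⟨zpowers (k : G), zpowers_le.mpr k.2, by rw [Nat.card_zpowers, hko]; exact hp⟩

theorem prime_eq_of_dvd_card_pgroup20 {s q : ℕ} (hs : s.Prime) (hq : q.Prime) {S : Subgroup G}
    (hS : IsPGroup s S) (hd : q ∣ Nat.card S) : q = s := by
  haveI : Fact s.Prime := ⟨hs⟩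
  obtain ⟨n, hn⟩ := IsPGroup.iff_card.mp hS
  rw [hn] at hd
  exact (Nat.prime_dvd_prime_iff_eq hq hs).mp (hq.dvd_of_dvd_pow hd)

theorem pD1 (hG : IsMinSimpleOddOrder G) (R : Rows G) (hA : PA G) (hB : PB G) (hC0 : PC0 G)
    (hK : PK G) : PD1 G := by
  intro M K U L H c s S hs hsσ hSU hS1 hSp hSrel
  have hU := ut hG
  haveI : Fact s.Prime := ⟨hs⟩
  have c' : Cfg M K U L := c.toCfg
  obtain ⟨-, -, -, -, hA5⟩ := hA M K U L c'
  obtain ⟨-, -, -, hC4⟩ := hC0 M K U L c'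
  obtain ⟨hκ, hσ, -, hσ1, -⟩ := hK M K U L H c
  obtain ⟨-, hKS⟩ := hA5 s hs S hSU hS1 hSp hSrel
  obtain ⟨K₀, hK₀, hK₀p⟩ := exists_prime_sub20 c.hK1
  have hK₀1 : K₀ ≠ ⊥ := card_prime_ne_bot hK₀p rfl
  have hfix := hB M K U L c' K₀ H hK₀ hK₀p c.hH (hK₀.trans c.hKH) c.hnM c.hnL
  have h53 := R.h1353 M c.hM K U c.hKU
  have hpσ : Nat.card K₀ ∉ sigma H := fun h =>
    (hσ _ h).2 (hC4 _ hK₀p (Subgroup.card_dvd_of_le hK₀))
  have hcent : sigmaCore H ≤ centralizer (S : Set G) := by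
    apply Helper24.BG13F.frob_centralizes hS1 hK₀1 (hK₀.trans hKS)
    · intro e he he1 u hu heu
      have : u ∈ U ⊓ centralizer ({e} : Set G) := by
        refine mem_inf.mpr ⟨hSU hu, ?_⟩
        rw [Helper20.BG14.mem_centralizer_singleton]
        exact heu
      rw [h53 e (hK₀ he) he1, mem_bot] at this
      exact this
    · exact (hSU.trans c.hUH).trans (sc_norm H)
    · exact (hK₀.trans c.hKH).trans (sc_norm H)
    · exact MS_solvable hG (fun h => c.hH.1 (top_le_iff.mp (h ▸ sc_le H)))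
    · apply Nat.coprime_of_dvd
      intro q hq h1 h2
      have hqσ : q ∈ sigma H := sc_primes H hq h1
      rw [sup_comm] at h2
      rcases (Nat.Prime.dvd_mul hq).mp (h2.trans (Helper1.card_sup_dvd (hK₀.trans hKS))) with h | h
      · rw [(Nat.prime_dvd_prime_iff_eq hq hK₀p).mp h] at hqσ
        exact hpσ hqσ
      · rw [prime_eq_of_dvd_card_pgroup20 hs hq hSp h] at hqσ
        exact hsσ hqσ
    · rw [hfix]
      exact bot_le
  refine ⟨hcent, ?_⟩
  rcases tau2_or_rank_one hG hU c.hH hs hsσ with h | h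
  · exact h
  · exfalso
    obtain ⟨S₀, hS₀, hS₀p⟩ := exists_prime_sub20 hS1
    have hS₀c : Nat.card S₀ = s :=
      prime_eq_of_dvd_card_pgroup20 hs hS₀p hSp (Subgroup.card_dvd_of_le hS₀)
    obtain ⟨w, hw, hw1⟩ := exists_ne_one_of_card_prime hs hS₀c
    have hwo : orderOf w = s := by
      apply orderOf_eq_prime _ hw1
      have := pow_card_eq_one' (G := S₀) (x := ⟨w, hw⟩)
      rw [hS₀c] at this
      exact congrArg Subtype.val this
    obtain ⟨y, hy⟩ := Subgroup.ne_bot_iff_exists_ne_one.mp hσ1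
    have hy1 : (y : G) ≠ 1 := fun h => hy (Subtype.ext h)
    have : s ∈ kappa H := mem_kappa_of hG c.hH hs hsσ h (c.hUH (hSU (hS₀ hw))) hwo y.2 hy1
      (mem_centralizer_iff.mp (hcent y.2) w (hS₀ hw))
    rw [hκ] at this
    exact this

end Cfsg.Agent.Lib.Helper25.P2
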