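/-
Helper library (helper25 farm, piece D2 by helper20): the heart of `U ≤ H_σ` (BG 14.11).
-/
import Cfsg.Agent.Lib.Helper25.P2.Defs
import Cfsg.Agent.Lib.Helper20.BG146e
import Cfsg.Agent.S1378
import Cfsg.Agent.S1375

set_option autoImplicit false
set_option linter.unusedSimpArgs false
set_option linter.unusedVariables false
set_option linter.style.haveILetI false
set_option linter.unusedSectionVars false

namespace Cfsg.Agent.Lib.Helper25.P2

open Subgroup Cfsg
open Cfsg.Agent.Lib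
open Cfsg.Agent.Lib.Helper24 Cfsg.Agent.Lib.Helper34 Cfsg.Agent.Lib.Helper31.BG11
open Cfsg.Agent.Lib.Helper34.BG13 Cfsg.Agent.Lib.Helper34.BG16 Cfsg.Agent.Lib.Helper10.BG124
open Cfsg.Agent.Lib.Helper20.BG14

universe u

variable {G : Type u} [Group G] [Finite G]

theorem pD2 (hG : IsMinSimpleOddOrder G) (R : Rows G) (hA : PA G) (hB : PB G) (hC0 : PC0 G) :
    PD2 G := by
  intro M K U L c s S K₀ A₁ B x' hs hSU hSp hSrel hScyc hK₀ hK₀p hA₁S hA₁c hA₁B hBel hBc hx'B hx'1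
    hx'K₀ hx'S
  have h78 : Helper20.BG14.H1378 G := (Cfsg.Agent.S1378.result hG).2
  have hU := ut hG
  haveI : Fact s.Prime := ⟨hs⟩
  obtain ⟨hA1, -, -, -, hA5⟩ := hA M K U L c
  obtain ⟨-, hUL, -, hC4⟩ := hC0 M K U L c
  have hA₁1 : A₁ ≠ ⊥ := card_prime_ne_bot hs hA₁c
  have hK₀1 : K₀ ≠ ⊥ := card_prime_ne_bot hK₀p rfl
  have hS1 : S ≠ ⊥ := fun h => hA₁1 (eq_bot_iff.mpr (h ▸ hA₁S))
  obtain ⟨hSM, hKS⟩ := hA5 s hs S hSU hS1 hSp hSrel
  have hsU : s ∣ Nat.card U := hA₁c ▸ Subgroup.card_dvd_of_le (hA₁S.trans hSU)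
  obtain ⟨hsσM, -⟩ := hA1 s hs hsU
  obtain ⟨k, hk, hk1⟩ := exists_ne_one_of_card_prime hK₀p rfl
  have hkK : k ∈ K := hK₀ hk
  have hkL : k ∈ sigmaCore L := by
    have := c.hKst ▸ hkK
    exact this.1
  have h67 := (R.h1367 M c.hM K U c.hKU c.hK1 L c.hL c.hKst c.hKstH).2 K₀ hK₀ hK₀p
  have hx'L : x' ∈ L := h67.1 hx'K₀
  have hx'k : x' ∈ centralizer ({k} : Set G) := by
    rw [Helper20.BG14.mem_centralizer_singleton]
    exact (mem_centralizer_iff.mp hx'K₀ k hk)
  have hx'o : orderOf x' = s := orderOf_eq_prime (hBel.2 x' hx'B) hx'1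
  have hprimes : ∀ r : ℕ, r.Prime → r ∣ Nat.card (zpowers x') → r = s := by
    intro r hr hd
    rw [Nat.card_zpowers, hx'o] at hd
    exact (Nat.prime_dvd_prime_iff_eq hr hs).mp hd
  have hSx' : S ≤ centralizer ({x'} : Set G) := by
    intro z hz
    rw [Helper20.BG14.mem_centralizer_singleton]
    exact (mem_centralizer_iff.mp hx'S z hz).symm
  have hSL : ¬ S ≤ L := fun h => hS1 (eq_bot_iff.mpr (hUL ▸ le_inf hSU h))
  have hncL : ¬ centralizer ({x'} : Set G) ≤ L := fun h => hSL (hSx'.trans h)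
  have hsσL : s ∈ sigma L := by
    by_contra hsL
    rcases R.h1432 L c.hL k hkL hk1 x' ⟨hx'L, hx'k⟩ hx'1 (by
      intro p hp hpd
      rw [hx'o] at hpd
      rw [(Nat.prime_dvd_prime_iff_eq hp hs).mp hpd]
      exact hsL) with ⟨hκ, -⟩ | ⟨-, -, hc, -⟩
    · have hsκ : s ∈ kappa L := hκ s hs (by rw [hx'o])
      have hsKs : s ∣ Nat.card (sigmaCore M ⊓ centralizer (K : Set G) : Subgroup G) := by
        have h1 := c.hKstH.2.2 s hs hsκ
        have h2 : s ∣ Nat.card L := hsκ.2.1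
        rw [← Helper23.card_mul_relIndex c.hKstH.1] at h2
        rcases (Nat.Prime.dvd_mul hs).mp h2 with h | h
        · exact h
        · exact (h1 h).elim
      exact hsσM (sc_primes M hs (hsKs.trans (Subgroup.card_dvd_of_le inf_le_left)))
    · exact hncL hc
  have hx'σ : x' ∈ sigmaCore L :=
    le_sc_of_primes hG hU c.hL (zpowers_le.mpr hx'L)
      (fun r hr hd => (hprimes r hr hd) ▸ hsσL) (mem_zpowers x')
  obtain ⟨N, ⟨hN, hcN⟩, -, -, hnorm, hcomplC, hcompl, -⟩ :=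
    Cfsg.Agent.S1375.result hG L c.hL x' hx'σ hx'1 hncL
  have hBx' : B ≤ centralizer ({x'} : Set G) := by
    intro z hz
    rw [Helper20.BG14.mem_centralizer_singleton]
    exact congrArg Subtype.val (hBel.1.is_comm.comm (⟨x', hx'B⟩ : B) ⟨z, hz⟩)
  have hBN : B ≤ N := hBx'.trans hcN
  have hx'nσ : x' ∉ sigmaCore N := by
    intro h
    have : x' ∈ (L ⊓ N) ⊓ sigmaCore N := ⟨⟨hx'L, hBN hx'B⟩, h⟩
    rw [hcompl.2.2.1, mem_bot] at this
    exact hx'1 this
  have hsσN : s ∉ sigma N := fun h =>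
    hx'nσ (le_sc_of_primes hG hU hN (zpowers_le.mpr (hBN hx'B))
      (fun r hr hd => (hprimes r hr hd) ▸ h) (mem_zpowers x'))
  have hsτ : s ∈ tau2 N :=
    (tau2_or_rank_one hG hU hN hs hsσN).resolve_right
      (not_pRankLE_of_le hBN hBel.1 hBel.2 (by
        rw [hBc]
        exact Nat.pow_lt_pow_right hs.one_lt (by norm_num)))
  have h17 := Cfsg.Agent.S1417.result hG N hN s hsτ B ⟨hBN, hBel, hBc⟩
  have hV1 : sigmaCore N ⊓ centralizer ({x'} : Set G) ≠ ⊥ := by
    intro h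
    apply hncL
    intro z hz
    obtain ⟨a, ha, b, hb, rfl⟩ := hcomplC.2.2.2 z hz
    rw [h, mem_bot] at hb
    rw [hb, mul_one]
    exact ha.1
  have hnL : ∀ g : G, N ≠ L.map (MulAut.conj g).toMonoidHom := by
    intro g hg
    apply hsσN
    rw [hg]
    exact (sigma_cj_iff g).mpr hsσL
  have hnM : ∀ g : G, N ≠ M.map (MulAut.conj g).toMonoidHom := by
    intro g hg
    have hr1 : PRankLE s 1 M :=
      pRankLE_of_isSylowIn ⟨hSU.trans c.hKU.compl.1, hSp, hSM⟩ (pRankLE_one_of_isCyclic hs.pos)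
    have h2 := pRankLE_cj g hr1
    apply hsτ.2.2.2
    rw [hg]
    exact h2
  have hK₀x' : K₀ ≤ centralizer ({x'} : Set G) := by
    intro z hz
    rw [Helper20.BG14.mem_centralizer_singleton]
    exact (mem_centralizer_iff.mp hx'K₀ z hz).symm
  have hfix := hB M K U L c K₀ N hK₀ hK₀p hN (hK₀x'.trans hcN) hnM hnL
  have hpσN : Nat.card K₀ ∉ sigma N := by
    intro h
    have hpL : Nat.card K₀ ∈ sigma L := hC4 _ hK₀p (Subgroup.card_dvd_of_le hK₀)
    obtain ⟨g, hg⟩ := h78 L N c.hL hN ⟨_, hpL, h⟩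
    exact hnL g hg
  have hK₀A₁ : K₀ ≤ normalizer (A₁ : Set G) :=
    (hK₀.trans hKS).trans (Helper9.BG12.normalizer_le_normalizer_of_isCyclic hScyc hA₁S)
  have h53 := R.h1353 M c.hM K U c.hKU
  have hVc : sigmaCore N ⊓ centralizer ({x'} : Set G) ≤ centralizer (A₁ : Set G) := by
    apply Helper24.BG13F.frob_centralizes hA₁1 hK₀1 hK₀A₁
    · intro e he he1 u hu heu
      have : u ∈ U ⊓ centralizer ({e} : Set G) := by
        refine mem_inf.mpr ⟨hSU (hA₁S hu), ?_⟩
        rw [Helper20.BG14.mem_centralizer_singleton]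
        exact heu
      rw [h53 e (hK₀ he) he1, mem_bot] at this
      exact this
    · exact (hA₁B.trans hBx').trans hnorm
    · exact hK₀x'.trans hnorm
    · exact MS_solvable hG (fun h => hN.1 (top_le_iff.mp (h ▸ (inf_le_left.trans (sc_le N)))))
    · apply Nat.coprime_of_dvd
      intro q hq h1 h2
      have hqσ : q ∈ sigma N := sc_primes N hq (h1.trans (Subgroup.card_dvd_of_le inf_le_left))
      rw [sup_comm] at h2
      rcases (Nat.Prime.dvd_mul hq).mp (h2.trans (Helper1.card_sup_dvd hK₀A₁)) with h | h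
      · rw [(Nat.prime_dvd_prime_iff_eq hq hK₀p).mp h] at hqσ
        exact hpσN hqσ
      · rw [hA₁c] at h
        rw [(Nat.prime_dvd_prime_iff_eq hq hs).mp h] at hqσ
        exact hsσN hqσ
    · intro z hz
      have : z ∈ sigmaCore N ⊓ centralizer (K₀ : Set G) := ⟨hz.1.1, hz.2⟩
      rw [hfix, mem_bot] at this
      rw [this]
      exact one_mem _
  -- `B = A₁ ⊔ ⟨x'⟩`
  have hx'A₁ : x' ∉ A₁ := by
    intro h
    have : x' ∈ U ⊓ centralizer ({k} : Set G) := ⟨hSU (hA₁S h), hx'k⟩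
    rw [h53 k hkK hk1, mem_bot] at this
    exact hx'1 this
  have hT : A₁ ⊔ zpowers x' = B := by
    by_contra hne
    have hle : A₁ ⊔ zpowers x' ≤ B := sup_le hA₁B (zpowers_le.mpr hx'B)
    have hc := card_eq_of_lt hs hBc hle (fun h => hA₁1 (eq_bot_iff.mpr (h ▸ le_sup_left))) hne
    have : A₁ = A₁ ⊔ zpowers x' := Subgroup.eq_of_le_of_card_ge le_sup_left (by rw [hc, hA₁c])
    apply hx'A₁
    rw [this]
    exact (le_sup_right : zpowers x' ≤ _) (mem_zpowers x')
  apply hV1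
  rw [eq_bot_iff, ← h17.2.2.2.1]
  intro v hv
  refine mem_inf.mpr ⟨hv.1, ?_⟩
  have hle : B ≤ centralizer ({v} : Set G) := by
    rw [← hT]
    refine sup_le ?_ (zpowers_le.mpr ?_)
    · intro a ha
      rw [Helper20.BG14.mem_centralizer_singleton]
      exact (mem_centralizer_iff.mp (hVc hv) a ha).symm
    · rw [Helper20.BG14.mem_centralizer_singleton]
      exact (Helper20.BG14.mem_centralizer_singleton.mp hv.2).symm
  rw [mem_centralizer_iff]
  intro b hb
  exact (Helper20.BG14.mem_centralizer_singleton.mp (hle hb)).symm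

end Cfsg.Agent.Lib.Helper25.P2
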