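/-
Helper library (helper25 farm, piece E by helper72).
-/
import Cfsg.Agent.Lib.Helper25.P2.Defs
import Cfsg.Agent.Lib.Helper34.BG16e
import Cfsg.Agent.Lib.Helper22.SupLemmas
import Cfsg.Agent.Lib.Helper24.Basic

set_option autoImplicit false
set_option linter.unusedVariables false
set_option linter.unusedSectionVars false

namespace Cfsg.Agent.Lib.Helper25.P2

open Subgroup Cfsg
open Cfsg.Agent.Lib
open Cfsg.Agent.Lib.Helper24 Cfsg.Agent.Lib.Helper34 Cfsg.Agent.Lib.Helper31.BG11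
open Cfsg.Agent.Lib.Helper34.BG13 Cfsg.Agent.Lib.Helper34.BG16

universe u

variable {G : Type u} [Group G] [Finite G]

/-- two subgroups without a common prime divisor meet trivially. -/
theorem inf_eq_bot_of_primes72 {X Y : Subgroup G}
    (h : ∀ q : ℕ, q.Prime → q ∣ Nat.card X → ¬ q ∣ Nat.card Y) : X ⊓ Y = ⊥ :=
  disjoint_iff.1 (Subgroup.disjoint_of_coprime_natCard
    (Nat.coprime_of_dvd (fun q hq h1 h2 => h q hq h1 h2)))

theorem pE (hG : IsMinSimpleOddOrder G) (hA : PA G) (hC0 : PC0 G) (hK : PK G) (hD : PD G) :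
    PE G := by
  intro M K U L H h
  have c : Cfg M K U L := h.toCfg
  obtain ⟨hA1, hA2, hA3, hA4, hA5⟩ := hA M K U L c
  obtain ⟨hC1, hC2, hC3, hC4⟩ := hC0 M K U L c
  obtain ⟨hK1, hK2, hK3, hK4, hK5⟩ := hK M K U L H h
  have hUσ : U ≤ sigmaCore H := hD M K U L H h
  have hUM : U ≤ M := c.hKU.compl.1
  have hKM : K ≤ M := c.hKU.hall.1
  have hσσ : sigmaCore M ⊓ sigmaCore H = ⊥ := by
    apply inf_eq_bot_of_primes72
    intro q hq h1 h2
    exact (hK2 q (sc_primes H hq h2)).1 (sc_primes M hq h1)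
  have hKσ : K ⊓ sigmaCore H = ⊥ := by
    apply inf_eq_bot_of_primes72
    intro q hq h1 h2
    exact (hK2 q (sc_primes H hq h2)).2 (hC4 q hq h1)
  have hY : sigmaCore M ⊓ H = ⊥ := by
    rw [eq_bot_iff, ← hA4]
    refine le_inf inf_le_left ?_
    intro y hy
    obtain ⟨hy1, hy2⟩ := Subgroup.mem_inf.1 hy
    rw [mem_centralizer_iff]
    intro u hu
    have h1 : y * u * y⁻¹ * u⁻¹ ∈ sigmaCore H :=
      mul_mem ((mem_normalizer_iff.1 (sc_norm H hy2) u).1 (hUσ hu)) (inv_mem (hUσ hu))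
    have h2 : y * u * y⁻¹ * u⁻¹ ∈ sigmaCore M := by
      have : y * u * y⁻¹ * u⁻¹ = y * (u * y⁻¹ * u⁻¹) := by group
      rw [this]
      exact mul_mem hy1 ((mem_normalizer_iff.1 (sc_norm M (hUM hu)) y⁻¹).1 (inv_mem hy1))
    have h3 : y * u * y⁻¹ * u⁻¹ ∈ sigmaCore M ⊓ sigmaCore H := Subgroup.mem_inf.2 ⟨h2, h1⟩
    rw [hσσ, mem_bot] at h3
    have h4 : y * u = u * y := by
      have : y * u = (y * u * y⁻¹ * u⁻¹) * (u * y) := by group
      rw [this, h3, one_mul]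
    exact h4.symm
  have hMH : M ⊓ H = U ⊔ K := by
    apply le_antisymm
    · intro m hm
      obtain ⟨hm1, hm2⟩ := Subgroup.mem_inf.1 hm
      obtain ⟨e, he, y, hy, rfl⟩ := (isComplIn_sup hG c.hM c.hKU).2.2.2 m hm1
      have heH : e ∈ H := (sup_le h.hUH h.hKH) he
      have hyH : y ∈ H := by
        have := mul_mem (inv_mem heH) hm2
        rwa [inv_mul_cancel_left] at this
      have hy1 : y ∈ sigmaCore M ⊓ H := Subgroup.mem_inf.2 ⟨hy, hyH⟩
      rw [hY, mem_bot] at hy1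
      rw [hy1, mul_one]; exact he
    · exact le_inf (sup_le hUM hKM) (sup_le h.hUH h.hKH)
  refine ⟨hMH, ?_⟩
  intro hle
  have hUeq : U = sigmaCore H := by
    by_contra hne
    obtain ⟨x, hx, hxN, hxU⟩ := exists_mem_normalizer_not_mem hK3 (lt_of_le_of_ne hUσ hne)
    have hxH : x ∈ H := sc_le H hx
    have hxM : x ∈ M := hle (Subgroup.mem_inf.2 ⟨hxH, hxN⟩)
    have hxUK : x ∈ U ⊔ K := hMH ▸ Subgroup.mem_inf.2 ⟨hxM, hxH⟩
    obtain ⟨u, hu, k, hk, rfl⟩ := (Helper22.mem_sup_of_le_normalizer c.hKU.normal).1 hxUK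
    have hkσ : k ∈ sigmaCore H := by
      have := mul_mem (inv_mem (hUσ hu)) hx
      rwa [inv_mul_cancel_left] at this
    have hk1 : k ∈ K ⊓ sigmaCore H := Subgroup.mem_inf.2 ⟨hk, hkσ⟩
    rw [hKσ, mem_bot] at hk1
    apply hxU
    rw [hk1, mul_one]; exact hu
  have hHM : H ≤ M := by
    refine le_trans ?_ hle
    refine le_inf le_rfl ?_
    rw [hUeq]; exact sc_norm H
  have hHeq : H = M := h.hH.le_iff_eq c.hM.1 |>.1 hHM |>.symm ▸ rfl
  apply h.hnM 1
  rw [hHeq]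
  exact (cj_one M).symm

end Cfsg.Agent.Lib.Helper25.P2
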