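/-
Helper library (helper25): piece (F) of `P2/Defs`: in a maximal subgroup `M` of type `𝒫₂` no
elementary abelian subgroup of order `t²`, `t ∈ σ(M)`, is maximal elementary abelian in `G`.
-/
import Cfsg.Agent.Lib.Helper25.P2.Defs
import Cfsg.Agent.Lib.Helper25.NilpotentCoprime
import Cfsg.Agent.Lib.Helper34.BG16e
import Cfsg.Agent.S1545

set_option autoImplicit false
set_option linter.unusedVariables false
set_option linter.style.haveILetI false

namespace Cfsg.Agent.Lib.Helper25.P2

open Subgroup Cfsg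
open Cfsg.Agent.Lib
open Cfsg.Agent.Lib.Helper34.BGRows
open Cfsg.Agent.Lib.Helper24 Cfsg.Agent.Lib.Helper34 Cfsg.Agent.Lib.Helper31.BG11
open Cfsg.Agent.Lib.Helper34.BG13 Cfsg.Agent.Lib.Helper34.BG16

universe u

variable {G : Type u} [Group G]

/-- `Ω₁(O_t(Z(N)))` as an explicit subgroup. -/
def omZ (t : ℕ) (N : Subgroup G) : Subgroup G where
  carrier := {z | z ∈ N ∧ z ∈ centralizer (N : Set G) ∧ z ^ t = 1}
  mul_mem' := by
    rintro a b ⟨ha1, ha2, ha3⟩ ⟨hb1, hb2, hb3⟩
    refine ⟨mul_mem ha1 hb1, mul_mem ha2 hb2, ?_⟩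
    have h : Commute a b := mem_centralizer_iff.1 hb2 a ha1
    rw [h.mul_pow, ha3, hb3, one_mul]
  one_mem' := ⟨one_mem _, one_mem _, one_pow _⟩
  inv_mem' := by
    rintro a ⟨h1, h2, h3⟩
    exact ⟨inv_mem h1, inv_mem h2, by rw [inv_pow, h3, inv_one]⟩

theorem mem_omZ {t : ℕ} {N : Subgroup G} {z : G} :
    z ∈ omZ t N ↔ z ∈ N ∧ z ∈ centralizer (N : Set G) ∧ z ^ t = 1 := Iff.rfl

theorem omZ_le (t : ℕ) (N : Subgroup G) : omZ t N ≤ N := fun _ h => h.1

theorem normalizer_le_normalizer_omZ (t : ℕ) (N : Subgroup G) :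
    normalizer (N : Set G) ≤ normalizer (omZ t N : Set G) := by
  rw [le_normalizer_iff]
  rintro g hg z ⟨h1, h2, h3⟩
  refine ⟨(mem_normalizer_iff.mp hg z).mp h1,
    (mem_normalizer_iff.mp (Helper24.normalizer_le_normalizer_centralizer N hg) z).mp h2, ?_⟩
  rw [conj_pow, h3]
  group

theorem exists_prime_sub25 [Finite G] {K : Subgroup G} (hK1 : K ≠ ⊥) :
    ∃ K₀ : Subgroup G, K₀ ≤ K ∧ (Nat.card K₀).Prime := by
  have hcard : Nat.card K ≠ 1 := fun h => hK1 ((Subgroup.card_eq_one).1 h)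
  obtain ⟨p, hp, hpd⟩ := Nat.exists_prime_and_dvd hcard
  haveI : Fact p.Prime := ⟨hp⟩
  obtain ⟨x, hx⟩ := exists_prime_orderOf_dvd_card' (G := K) p hpd
  refine ⟨zpowers (x : G), zpowers_le.2 x.2, ?_⟩
  rw [Nat.card_zpowers, Subgroup.orderOf_coe, hx]
  exact hp

variable [Finite G]

theorem pF (hG : IsMinSimpleOddOrder G) (R : Rows G) (hA : PA G) : PF G := by
  intro M K U L c t ht B hBM hBe hBc
  obtain ⟨hUp, hUc, hnil, hCU, hSyl⟩ := hA M K U L c
  have hU := hU_of hG
  have htp : t.Prime := ht.1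
  haveI : Fact t.Prime := ⟨htp⟩
  have hM := c.hM
  have hKU := c.hKU
  have hBσ : B ≤ sigmaCore M := by
    apply le_sc_of_primes hG hU hM hBM
    intro r hr hd
    rw [hBc] at hd
    rw [(Nat.prime_dvd_prime_iff_eq hr htp).1 (hr.dvd_of_dvd_pow hd)]
    exact ht
  set V : Subgroup G := omZ t (sigmaCore M) with hV
  have hVσ : V ≤ sigmaCore M := omZ_le _ _
  have hMV : M ≤ normalizer (V : Set G) := (sc_norm M).trans (normalizer_le_normalizer_omZ _ _)
  -- `V ≠ 1`
  have htσ : t ∣ Nat.card (sigmaCore M) := by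
    have h1 : t ∣ Nat.card B := by rw [hBc]; exact Dvd.intro_left _ (by ring)
    exact h1.trans (card_dvd_of_le hBσ)
  have hV1 : V ≠ ⊥ := by
    obtain ⟨y, hy, hy1, ⟨k, hk⟩, hyc⟩ := exists_central_pElement hnil t htσ
    have hk0 : k ≠ 0 := by
      rintro rfl
      rw [pow_zero, orderOf_eq_one_iff] at hk
      exact hy1 hk
    obtain ⟨j, rfl⟩ := Nat.exists_eq_succ_of_ne_zero hk0
    have ho : orderOf (y ^ (t ^ j)) = t := by
      rw [orderOf_pow_of_dvd (x := y) (pow_ne_zero _ htp.ne_zero)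
        (by rw [hk]; exact pow_dvd_pow _ (Nat.le_succ j)), hk, pow_succ]
      exact Nat.mul_div_cancel_left _ (pow_pos htp.pos _)
    intro hbot
    have hmem : y ^ (t ^ j) ∈ V := by
      refine ⟨pow_mem hy _, ?_, ?_⟩
      · apply pow_mem
        rw [mem_centralizer_iff]
        intro h hh
        exact hyc h hh
      · have h5 := pow_orderOf_eq_one (y ^ (t ^ j))
        rwa [ho] at h5
    rw [hbot, mem_bot] at hmem
    rw [hmem, orderOf_one] at ho
    exact htp.one_lt.ne ho
  -- `V` is elementary abelian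
  have hVcomm : ∀ a ∈ sigmaCore M, ∀ v ∈ V, a * v = v * a := by
    intro a ha v hv
    exact mem_centralizer_iff.1 hv.2.1 a ha
  have hVpg : IsPGroup t V := by
    intro v
    refine ⟨1, ?_⟩
    apply Subtype.ext
    simpa using v.2.2.2
  -- the Frobenius group `U K₀`
  obtain ⟨K₀, hK₀, hp⟩ := exists_prime_sub25 c.hK1
  set p := Nat.card K₀ with hpdef
  have hK₀1 : K₀ ≠ ⊥ := by
    intro h
    rw [hpdef, h, card_bot] at hp
    exact Nat.not_prime_one hp
  have hcompl := isComplIn_sup hG hM hKU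
  have hUK₀ : U ⊔ K₀ ≤ U ⊔ K := sup_le_sup_left hK₀ U
  have hfpf : ∀ e ∈ K₀, e ≠ 1 → ∀ u ∈ U, e * u = u * e → u = 1 := by
    intro e he he1 u hu heu
    have h1 := R.h1353 M hM K U hKU e (hK₀ he) he1
    have h2 : u ∈ U ⊓ centralizer ({e} : Set G) := by
      refine mem_inf.2 ⟨hu, ?_⟩
      rw [mem_centralizer_singleton_iff]
      exact heu.symm
    rw [h1, mem_bot] at h2
    exact h2
  have hinf : U ⊓ K₀ = ⊥ := by
    rw [eq_bot_iff]
    intro x hx
    rw [mem_bot]
    by_contra hx1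
    exact hx1 (hfpf x hx.2 hx1 x hx.1 rfl)
  have hdisj : V ⊓ (U ⊔ K₀) = ⊥ := by
    rw [eq_bot_iff, ← hcompl.2.2.1]
    exact le_inf (inf_le_right.trans hUK₀) (inf_le_left.trans hVσ)
  have hcop : Nat.Coprime (Nat.card V) (Nat.card ↥(U ⊔ K₀)) := by
    apply Nat.coprime_of_dvd
    intro r hr h1 h2
    exact compl_not_sigma hG hU hM hcompl hr (h2.trans (card_dvd_of_le hUK₀))
      (sc_primes M hr (h1.trans (card_dvd_of_le hVσ)))
  have hsolv : Group.IsSolvable V :=
    MS_solvable hG (ne_top_of_le_ne_top hM.1 (hVσ.trans (sc_le M)))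
  have key := Cfsg.Agent.S1545.result U K₀ V c.hU1 hK₀1 hinf
    (fun e he u hu => (mem_normalizer_iff.1 (hKU.normal (hK₀ he)) u).1 hu) hfpf
    (fun x hx h hh => (mem_normalizer_iff.1 (hMV ((hUK₀.trans hcompl.1) hx)) h).1 hh)
    hdisj hsolv hcop
  have h1 : V ⊓ centralizer (U : Set G) = ⊥ := by
    rw [eq_bot_iff, ← hCU]
    exact inf_le_inf_right _ hVσ
  have h2 : V ⊓ centralizer ((U ⊔ K₀ : Subgroup G) : Set G) = ⊥ := by
    rw [eq_bot_iff, ← h1]
    exact inf_le_inf_left _ (centralizer_le (by exact_mod_cast (le_sup_left : U ≤ U ⊔ K₀)))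
  rw [h1, h2, card_bot, one_pow, one_mul, mul_one] at key
  -- `|V| ≥ t³`
  set cc := Nat.card ↥(V ⊓ centralizer (K₀ : Set G)) with hcc
  have hVcard : 1 < Nat.card V := by
    rcases Nat.lt_or_ge 1 (Nat.card V) with h | h
    · exact h
    · exfalso
      apply hV1
      apply (Subgroup.card_eq_one).1
      have := Nat.card_pos (α := V)
      omega
  have hcc1 : cc ≠ 1 := by
    intro h
    rw [h, one_pow] at key
    omega
  have htcc : t ∣ cc := by
    obtain ⟨n, hn⟩ := (IsPGroup.iff_card.1 (hVpg.to_le (inf_le_left : V ⊓ centralizer (K₀ : Set G) ≤ V)))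
    have hn0 : n ≠ 0 := by
      rintro rfl
      rw [pow_zero] at hn
      exact hcc1 hn
    rw [hcc, hn]
    exact dvd_pow_self _ hn0
  have hp3 : 3 ≤ p := by
    have h2 : p ≠ 2 := MS_prime_ne_two hG (H := K₀) (dvd_refl _)
    have := hp.two_le
    omega
  have ht3 : t ^ 3 ≤ Nat.card V := by
    rw [key]
    calc t ^ 3 ≤ t ^ p := Nat.pow_le_pow_right htp.pos hp3
      _ ≤ cc ^ p := Nat.pow_le_pow_left (Nat.le_of_dvd (Nat.pos_of_ne_zero (by
          intro h0
          rw [h0] at htcc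
          have := Nat.card_pos (α := ↥(V ⊓ centralizer (K₀ : Set G)))
          omega)) htcc) p
  -- `B' = B ⊔ V`
  refine ⟨B ⊔ V, ⟨?_, ?_⟩, le_sup_left, ?_⟩
  · -- commutative
    have hcl : B ⊔ V = closure ((B : Set G) ∪ (V : Set G)) := by
      rw [Subgroup.closure_union, Subgroup.closure_eq, Subgroup.closure_eq]
    rw [hcl]
    apply isMulCommutative_closure
    rintro a (ha | ha) b (hb | hb)
    · have := hBe.1.is_comm.comm (⟨a, ha⟩ : B) ⟨b, hb⟩
      exact congrArg Subtype.val this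
    · exact hVcomm a (hBσ ha) b hb
    · exact (hVcomm b (hBσ hb) a ha).symm
    · exact hVcomm a (hVσ ha) b hb
  · -- exponent `t`
    intro a ha
    have hVn : V ≤ centralizer (B : Set G) := by
      intro v hv
      rw [mem_centralizer_iff]
      intro b hb
      exact hVcomm b (hBσ hb) v hv
    have hle : B ⊔ V ≤ omZ t (B ⊔ V) := by
      rw [sup_le_iff]
      constructor
      · intro b hb
        refine ⟨mem_sup_left hb, ?_, hBe.2 b hb⟩
        have h1 : B ⊔ V ≤ centralizer ({b} : Set G) := by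
          rw [sup_le_iff]
          constructor
          · intro b' hb'
            rw [mem_centralizer_singleton_iff]
            have := hBe.1.is_comm.comm (⟨b', hb'⟩ : B) ⟨b, hb⟩
            exact congrArg Subtype.val this
          · intro v hv
            rw [mem_centralizer_singleton_iff]
            exact (hVcomm b (hBσ hb) v hv).symm
        rw [mem_centralizer_iff]
        intro y hy
        exact mem_centralizer_singleton_iff.1 (h1 hy)
      · intro v hv
        refine ⟨mem_sup_right hv, ?_, hv.2.2⟩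
        have h1 : B ⊔ V ≤ centralizer ({v} : Set G) := by
          rw [sup_le_iff]
          constructor
          · intro b' hb'
            rw [mem_centralizer_singleton_iff]
            exact hVcomm b' (hBσ hb') v hv
          · intro v' hv'
            rw [mem_centralizer_singleton_iff]
            exact hVcomm v' (hVσ hv') v hv
        rw [mem_centralizer_iff]
        intro y hy
        exact mem_centralizer_singleton_iff.1 (h1 hy)
    exact (hle ha).2.2
  · intro h
    have hVB : V ≤ B := by rw [← h]; exact le_sup_right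
    have h3 := Nat.le_of_dvd Nat.card_pos (card_dvd_of_le hVB)
    rw [hBc] at h3
    have : t ^ 2 < t ^ 3 := Nat.pow_lt_pow_right htp.one_lt (by norm_num)
    omega

end Cfsg.Agent.Lib.Helper25.P2
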