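/-
Helper library (helper25 farm, piece G1 by helper20): if `t ∈ τ₂(H)`, every complement `E ≥ K` of
`H_σ` in `H` lies in `L`, and `t ∈ σ(L)`.
-/
import Cfsg.Agent.Lib.Helper25.P2.D1
import Cfsg.Agent.S1408

set_option autoImplicit false
set_option linter.unusedSimpArgs false
set_option linter.unusedVariables false
set_option linter.style.haveILetI false
set_option linter.unusedSectionVars false

namespace Cfsg.Agent.Lib.Helper25.P2

open Subgroup Cfsg
open Cfsg.Agent.Lib
open Cfsg.Agent.Lib.Helper24 Cfsg.Agent.Lib.Helper34 Cfsg.Agent.Lib.Helper31.BG11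
open Cfsg.Agent.Lib.Helper34.BG13 Cfsg.Agent.Lib.Helper34.BG16 Cfsg.Agent.Lib.Helper10.BG124
open Cfsg.Agent.Lib.Helper20.BG14

universe u

variable {G : Type u} [Group G] [Finite G]

theorem pG1 (hG : IsMinSimpleOddOrder G) (hB : PB G) (hC0 : PC0 G) (hX : PX G) (hF : PF G) :
    PG1 G := by
  intro M K U L H c E hE hKE t ht
  have hU := ut hG
  have htp : t.Prime := ht.1
  haveI : Fact t.Prime := ⟨htp⟩
  have c' : Cfg M K U L := c.toCfg
  obtain ⟨hC1, -, -, -⟩ := hC0 M K U L c'
  obtain ⟨K₀, hK₀, hK₀p⟩ := exists_prime_sub20 c.hK1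
  obtain ⟨A, hA⟩ := exists_T2 hE ht
  have h18 := h18' hG H c.hH E hE t ht A ⟨hA.le, hA.elem, hA.card⟩
  have hA1 : A ≠ ⊥ := by
    intro h
    have h2 := hA.card
    rw [h, Subgroup.card_bot] at h2
    have := htp.one_lt
    nlinarith
  obtain ⟨L', hL', hNL'⟩ := exists_coatom_ge
    (MS_normalizer_ne_top hG hA1 (MS_isPGroup_ne_top hG hA.pg))
  have htL' : t ∈ sigma L' := mem_sigma_of_normalizer_le hG hU (h18' hG) hL' hA.elem hA.card hNL'
  have hEL' : E ≤ L' := h18.1.1.trans hNL'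
  have hAσ : A ≤ sigmaCore L' := le_sc_of_primes hG hU hL' (hA.le.trans hEL') (by
    intro r hr hd
    rw [prime_eq_of_dvd_card_pgroup20 htp hr hA.pg hd]
    exact htL')
  by_cases h1 : ∃ g : G, L' = L.map (MulAut.conj g).toMonoidHom
  · obtain ⟨g, hg⟩ := h1
    have hLL : L' = L := by
      rw [hg]
      apply hC1 g
      rw [← hg, inf_eq_left.mpr (hKE.trans hEL')]
      exact c.hK1
    rw [← hLL]
    exact ⟨hEL', htL'⟩
  · exfalso
    by_cases h2 : ∃ g : G, L' = M.map (MulAut.conj g).toMonoidHom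
    · obtain ⟨g, hg⟩ := h2
      have htM : t ∈ sigma M := by
        rw [hg] at htL'
        exact (sigma_cj_iff g).mp htL'
      have hAM : cj g⁻¹ A ≤ M := by
        rw [← le_cj_iff]
        have h3 := hA.le.trans hEL'
        rw [hg] at h3
        exact h3
      have hcard : Nat.card (cj g⁻¹ A) = t ^ 2 := by
        rw [card_map_conj, hA.card]
      obtain ⟨B', hB'el, hle, hne⟩ := hF M K U L c' t htM (cj g⁻¹ A) hAM (elemAb_cj hA.elem g⁻¹) hcard
      have h08 := (Cfsg.Agent.S1408.result hG H c.hH t ht.2.1 ht.2.2.1 ht.2.2.2).2 A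
        (hA.le.trans hE.1) hA.elem hA.card (cj g B') (elemAb_cj hB'el g) (by
          have := cj_mono g hle
          rwa [cj_cj_inv] at this)
      apply hne
      rw [← h08, cj_inv_cj]
    · push Not at h1 h2
      have hfix := hB M K U L c' K₀ L' hK₀ hK₀p hL' ((hK₀.trans hKE).trans hEL') h2 h1
      apply hX M K U L H c E K₀ A hE hK₀ hK₀p (hK₀.trans hKE) t ht hA.le hA.elem hA.card
      rw [eq_bot_iff, ← hfix]
      exact inf_le_inf_right _ hAσ

end Cfsg.Agent.Lib.Helper25.P2
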