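/-
Helper library (helper25 farm, piece G2 by helper20): if `τ₂(H) = ∅`, every complement `E ≥ K` of
`H_σ` in `H` lies in `L`.
-/
import Cfsg.Agent.Lib.Helper25.P2.D1
import Cfsg.Agent.Lib.Helper34.BG16e
import Cfsg.Agent.Lib.Helper87.BG14.J
import Cfsg.Agent.S1415

set_option autoImplicit false
set_option linter.unusedSimpArgs false
set_option linter.unusedVariables false
set_option linter.style.haveILetI false
set_option linter.unusedSectionVars false

namespace Cfsg.Agent.Lib.Helper25.P2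

open Subgroup Cfsg
open Cfsg.Agent.Lib
open Cfsg.Agent.Lib.Helper24 Cfsg.Agent.Lib.Helper34 Cfsg.Agent.Lib.Helper31.BG11
open Cfsg.Agent.Lib.Helper34.BG13 Cfsg.Agent.Lib.Helper34.BG16 Cfsg.Agent.Lib.Helper10.BG124
open Cfsg.Agent.Lib.Helper20.BG14

universe u

variable {G : Type u} [Group G] [Finite G]

theorem le_centralizer_of_isCyclic20 {C X : Subgroup G} (hC : IsCyclic C) (hX : X ≤ C) :
    C ≤ centralizer (X : Set G) := by
  intro z hz
  rw [mem_centralizer_iff]
  intro w hw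
  letI := IsCyclic.commGroup (α := C)
  exact congrArg Subtype.val (mul_comm (⟨w, hX hw⟩ : C) ⟨z, hz⟩)

theorem pG2 (hG : IsMinSimpleOddOrder G) (hB : PB G) (hC0 : PC0 G) (hK : PK G) : PG2 G := by
  intro M K U L H c E hE hKE hτ2
  have hU := ut hG
  have c' : Cfg M K U L := c.toCfg
  obtain ⟨-, -, hC3, -⟩ := hC0 M K U L c'
  obtain ⟨hκ, -, -, hσ1, -⟩ := hK M K U L H c
  obtain ⟨K₀, hK₀, hK₀p⟩ := exists_prime_sub20 c.hK1
  have hK₀1 : K₀ ≠ ⊥ := card_prime_ne_bot hK₀p rfl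
  have hK₀E : K₀ ≤ E := hK₀.trans hKE
  have hfix := hB M K U L c' K₀ H hK₀ hK₀p c.hH (hK₀.trans c.hKH) c.hnM c.hnL
  have hNL := hC3 K₀ hK₀ hK₀p
  have hprimes : ∀ r : ℕ, r.Prime → r ∣ Nat.card E → r ∈ tau1 H ∪ tau3 H := by
    intro r hr hd
    rcases compl_primes hG c.hH hE hr hd with h | h
    · rw [hτ2] at h
      exact h.elim
    · exact h
  have hEsolv : Group.IsSolvable E :=
    MS_solvable hG (fun h => c.hH.1 (top_le_iff.mp (h ▸ hE.1)))
  obtain ⟨E₃, hE₃, -⟩ := Helper87.BG14.j_hall_ge (π := tau3 H) hEsolv (bot_le : (⊥ : Subgroup G) ≤ E)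
    (by
      intro p hp hd
      rw [Subgroup.card_bot] at hd
      exact (hp.one_lt.ne' (Nat.dvd_one.mp hd)).elim)
  obtain ⟨-, h15a, h15b⟩ := Cfsg.Agent.S1415.result hG H c.hH E hE
  obtain ⟨hE₃c, -, hE₃n⟩ := h15b E₃ hE₃
  rcases hprimes _ hK₀p (Subgroup.card_dvd_of_le hK₀E) with hp1 | hp3
  · -- `p ∈ τ₁(H)`
    obtain ⟨E₁, hE₁, hK₀E₁⟩ := Helper87.BG14.j_hall_ge (π := tau1 H) hEsolv hK₀E (by
      intro q hq hd
      rw [(Nat.prime_dvd_prime_iff_eq hq hK₀p).mp hd]
      exact hp1)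
    have hE₁c := h15a E₁ hE₁
    have h1 : E₁ ≤ centralizer (K₀ : Set G) := le_centralizer_of_isCyclic20 hE₁c hK₀E₁
    have hK₀n : K₀ ≤ normalizer (E₃ : Set G) := hK₀E.trans hE₃n
    have hpE₃ : ¬ Nat.card K₀ ∣ Nat.card E₃ := fun h =>
      hp1.2.2.2.1 (hE₃.2.1 _ hK₀p h).2.2.1
    have h3 : E₃ ≤ centralizer (K₀ : Set G) := by
      rw [← Subgroup.commutator_eq_bot_iff_le_centralizer]
      by_contra hY1
      have hYE₃ : ⁅E₃, K₀⁆ ≤ E₃ := commutator_le_left_of_le_normalizer hK₀n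
      have hPS : K₀ ≤ normalizer ((⁅E₃, K₀⁆ : Subgroup G) : Set G) :=
        (le_inf hK₀n le_normalizer).trans (normalizer_inf_le_normalizer_commutator E₃ K₀)
      have hE₃comm : IsMulCommutative E₃ :=
        le_centralizer_iff_isMulCommutative.mp (le_centralizer_of_isCyclic20 hE₃c le_rfl)
      have hYfix : ⁅E₃, K₀⁆ ⊓ centralizer (K₀ : Set G) = ⊥ := by
        apply Helper48.commutator_inf_centralizer_eq_bot hE₃comm hK₀n
        intro v hv hv1
        have hv2 : v ^ Nat.card E₃ = 1 := by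
          have := pow_card_eq_one' (G := E₃) (x := ⟨v, hv⟩)
          exact congrArg Subtype.val this
        exact Helper23.eq_one_of_pow_coprime ((Nat.Prime.coprime_iff_not_dvd hK₀p).mpr hpE₃) hv1 hv2
      have hVS : sigmaCore H ≤ centralizer ((⁅E₃, K₀⁆ : Subgroup G) : Set G) := by
        apply Helper24.BG13F.frob_centralizes hY1 hK₀1 hPS
        · intro e he he1 u hu heu
          have : u ∈ ⁅E₃, K₀⁆ ⊓ centralizer (K₀ : Set G) := by
            refine mem_inf.mpr ⟨hu, ?_⟩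
            rw [centralizer_eq_of_card_prime hK₀p rfl he he1]
            exact Helper20.BG14.mem_centralizer_singleton.mpr heu
          rw [hYfix, mem_bot] at this
          exact this
        · exact ((hYE₃.trans hE₃.1).trans hE.1).trans (sc_norm H)
        · exact (hK₀E.trans hE.1).trans (sc_norm H)
        · exact MS_solvable hG (fun h => c.hH.1 (top_le_iff.mp (h ▸ sc_le H)))
        · exact (Nat.Coprime.coprime_dvd_left
            (Subgroup.card_dvd_of_le (sup_le (hYE₃.trans hE₃.1) hK₀E))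
            (sc_compl_coprime hG c.hH hE)).symm
        · rw [hfix]
          exact bot_le
      obtain ⟨Y₀, hY₀, hY₀p⟩ := exists_prime_sub20 hY1
      have hr3 : Nat.card Y₀ ∈ tau3 H :=
        hE₃.2.1 _ hY₀p (Subgroup.card_dvd_of_le (hY₀.trans hYE₃))
      obtain ⟨w, hw, hw1⟩ := exists_ne_one_of_card_prime hY₀p rfl
      have hwo : orderOf w = Nat.card Y₀ := by
        apply @orderOf_eq_prime _ _ _ _ ⟨hY₀p⟩ _ hw1
        have := pow_card_eq_one' (G := Y₀) (x := ⟨w, hw⟩)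
        exact congrArg Subtype.val this
      obtain ⟨y, hy⟩ := Subgroup.ne_bot_iff_exists_ne_one.mp hσ1
      have hy1 : (y : G) ≠ 1 := fun h => hy (Subtype.ext h)
      have : Nat.card Y₀ ∈ kappa H := mem_kappa_of hG c.hH hY₀p hr3.2.1 hr3.2.2.2
        (hE.1 (hE₃.1 (hYE₃ (hY₀ hw)))) hwo y.2 hy1
        (mem_centralizer_iff.mp (hVS y.2) w (hY₀ hw))
      rw [hκ] at this
      exact this
    have hsup : E₁ ⊔ E₃ = E := by
      apply eq_of_forall_not_dvd_relIndex (sup_le hE₁.1 hE₃.1)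
      intro q hq hd
      have hqE : q ∣ Nat.card E := by
        rw [← Helper23.card_mul_relIndex (sup_le hE₁.1 hE₃.1)]
        exact Dvd.dvd.mul_left hd _
      rcases hprimes q hq hqE with h | h
      · exact Helper87.BG14.j_not_dvd_relIndex_of_le le_sup_left (sup_le hE₁.1 hE₃.1)
          (hE₁.2.2 q hq h) hd
      · exact Helper87.BG14.j_not_dvd_relIndex_of_le le_sup_right (sup_le hE₁.1 hE₃.1)
          (hE₃.2.2 q hq h) hd
    rw [← hsup]
    exact ((sup_le h1 h3).trans (Helper20.BG14.centralizer_le_normalizer' K₀)).trans hNL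
  · -- `p ∈ τ₃(H)`
    have hle : K₀ ≤ E₃ := le_of_normal_hall hE₃ hE₃n hK₀E (by
      intro q hq hd
      rw [(Nat.prime_dvd_prime_iff_eq hq hK₀p).mp hd]
      exact hp3)
    exact (hE₃n.trans (Helper9.BG12.normalizer_le_normalizer_of_isCyclic hE₃c hle)).trans hNL

end Cfsg.Agent.Lib.Helper25.P2
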