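/-
Helper library (helper25 farm, piece I by helper52): `H ∩ L` is a complement of `H_σ` in `H` and
`K ≤ F(H ∩ L)`.
-/
import Cfsg.Agent.Lib.Helper25.P2.D
import Cfsg.Agent.Lib.Helper48.FF1
import Cfsg.Agent.Lib.Helper72.BG37b
import Cfsg.Agent.S1420

set_option autoImplicit false
set_option linter.unusedSimpArgs false
set_option linter.unusedVariables false
set_option linter.style.haveILetI false
set_option linter.unusedSectionVars false

namespace Cfsg.Agent.Lib.Helper25.P2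

open Subgroup Cfsg
open Cfsg.Agent.Lib
open Cfsg.Agent.Lib.Helper24 Cfsg.Agent.Lib.Helper34 Cfsg.Agent.Lib.Helper31.BG11
open Cfsg.Agent.Lib.Helper34.BG13 Cfsg.Agent.Lib.Helper34.BG16
open Cfsg.Agent.Lib.Helper52.BG14
open scoped commutatorElement

universe u

variable {G : Type u} [Group G] [Finite G]

/-- `K` centralizes `E'` when `k ∉ τ₂(H)`. -/
theorem HC.comm_le_centralizer (hG : IsMinSimpleOddOrder G) {M K U L H E : Subgroup G}
    (c : HC M K U L H) (hκ : kappa H = ∅) (hE : IsComplIn E (sigmaCore H) H) (hKE : K ≤ E)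
    (h1 : PRankLE (Nat.card K) 1 H) : ⁅E, E⁆ ≤ centralizer (K : Set G) := by
  have hU := hU_of hG
  obtain ⟨hkp, hkL, hkU, hKσ⟩ := c.toCfg.K_facts hG
  haveI : Fact (Nat.card K).Prime := ⟨hkp⟩
  have hab : IsMulCommutative ↥⁅E, E⁆ := (Cfsg.Agent.S1420.result hG H c.hH E hE).2.1
  have hEn : E ≤ normalizer ((⁅E, E⁆ : Subgroup G) : Set G) := BG13.le_normalizer_commutator_self E
  have hE'E : ⁅E, E⁆ ≤ E := commutator_le_self E
  have hk2 : Nat.card K ≠ 2 := MS_prime_ne_two hG (H := K) dvd_rfl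
  by_cases hd : Nat.card K ∣ Nat.card ↥⁅E, E⁆
  · -- `K ≤ E'`
    obtain ⟨x₀, hx₀⟩ := exists_prime_orderOf_dvd_card' (G := ↥⁅E, E⁆) (Nat.card K) hd
    have hXc : Nat.card (zpowers (x₀ : G)) = Nat.card K := by
      rw [Nat.card_zpowers, Subgroup.orderOf_coe, hx₀]
    have hXE' : zpowers (x₀ : G) ≤ ⁅E, E⁆ := zpowers_le.2 x₀.2
    obtain ⟨m, hm, hmX⟩ := Helper20.BG14.conj_of_rank_one hk2 (pRankLE_mono hE.1 h1) hKE
      (hXE'.trans hE'E) rfl hXc
    have hKE' : K ≤ ⁅E, E⁆ := by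
      rw [← hmX]
      rintro _ ⟨y, hy, rfl⟩
      exact le_normalizer_iff.mp hEn m hm y (hXE' hy)
    exact (le_centralizer_iff_isMulCommutative.2 hab).trans (centralizer_le (by exact_mod_cast hKE'))
  · have hKn : K ≤ normalizer ((⁅E, E⁆ : Subgroup G) : Set G) := hKE.trans hEn
    have hdis : ⁅⁅E, E⁆, K⁆ ⊓ centralizer (K : Set G) = ⊥ := by
      apply Helper48.commutator_inf_centralizer_eq_bot hab hKn
      intro v hv hvk
      by_contra hv1
      apply hd
      have h2 : orderOf v = Nat.card K := orderOf_eq_prime hvk hv1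
      rw [← h2]
      exact orderOf_dvd_card_of_mem hv
    have hDle : ⁅⁅E, E⁆, K⁆ ≤ ⁅E, E⁆ := Subgroup.le_normalizer_iff_commutator_le_left.1 hKn
    have hKD : K ≤ normalizer ((⁅⁅E, E⁆, K⁆ : Subgroup G) : Set G) :=
      Helper52.le_normalizer_commutator hKn le_normalizer
    have hDb : ⁅⁅E, E⁆, K⁆ = ⊥ := by
      by_contra hD1
      have hcard : Nat.card ↥⁅⁅E, E⁆, K⁆ ≠ 1 := fun h => hD1 ((Subgroup.card_eq_one).1 h)
      obtain ⟨u, hu, hud⟩ := Nat.exists_prime_and_dvd hcard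
      haveI : Fact u.Prime := ⟨hu⟩
      have hKp : IsPGroup (Nat.card K) K := IsPGroup.of_card (n := 1) (by rw [pow_one])
      have hkD : ¬ Nat.card K ∣ Nat.card ↥⁅⁅E, E⁆, K⁆ := fun h => hd (h.trans (card_dvd_of_le hDle))
      obtain ⟨T, hT, hKT⟩ := exists_inv_sylow hKp hkD hKD u
      have hne : u ≠ Nat.card K := by
        intro h
        exact hkD (h ▸ hud)
      have hC : T ⊓ centralizer (K : Set G) = ⊥ := by
        rw [eq_bot_iff, ← hdis]
        exact inf_le_inf_right _ hT.1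
      have hTb := Helper52.BG15.lemmaT hG c.hM c.hKU c.hK1 c.hU1 c.hL c.hKst c.hKstH c.hH hκ hE
        hKE ((hT.1.trans hDle).trans hE'E) hT.2.1 hne hKT hC
      have h2 := hT.2.2
      rw [hTb, relIndex_bot_left] at h2
      exact h2 hud
    rwa [Subgroup.commutator_eq_bot_iff_le_centralizer] at hDb

/-- `E ≤ L` and `K ≤ F(E)`. -/
theorem HC.compl_le (hG : IsMinSimpleOddOrder G) {M K U L H E : Subgroup G}
    (c : HC M K U L H) (hκ : kappa H = ∅) (hE : IsComplIn E (sigmaCore H) H) (hKE : K ≤ E) :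
    E ≤ L ∧ K ≤ fittingOf E := by
  have hU := hU_of hG
  obtain ⟨hkp, hkL, hkU, hKσ⟩ := c.toCfg.K_facts hG
  haveI : Fact (Nat.card K).Prime := ⟨hkp⟩
  have hKs1 := Kst_ne_bot hG c.hM c.hKU.hall c.hK1
  have hkH : Nat.card K ∉ sigma H := compl_not_sigma hG hU c.hH hE hkp (card_dvd_of_le hKE)
  rcases tau2_or_rank_one hG hU c.hH hkp hkH with hk2 | h1
  · obtain ⟨B, hB⟩ := exists_T2 hE hk2
    obtain ⟨⟨hEN, hall⟩, -, -⟩ :=
      h18_of hG H c.hH E hE (Nat.card K) hB.tau B ⟨hB.le, hB.elem, hB.card⟩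
    have hKB : K ≤ B := hall K hKE rfl
    obtain ⟨hCK, -⟩ := cent_uniq hG c.hL c.hKstH hKs1 (le_of_eq c.hKst) hkp
    have hBL : B ≤ L :=
      ((le_centralizer_iff_isMulCommutative.2 hB.elem.1).trans
        (centralizer_le (by exact_mod_cast hKB))).trans hCK
    have hncyc : ¬ IsCyclic B := by
      intro hcyc
      haveI := hcyc
      refine not_pRankLE_of_le (le_refl B) hB.elem.1 hB.elem.2 ?_
        (pRankLE_one_of_isCyclic (p := Nat.card K) hkp.pos (S := B))
      rw [hB.card]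
      exact Nat.pow_lt_pow_right hkp.one_lt (by norm_num)
    obtain ⟨EL, hEL⟩ := exists_compl hG hU c.hL
    have hNB := (Cfsg.Agent.S1420.result hG L c.hL EL hEL).2.2.1 (Nat.card K) B hkL hB.pg hBL hncyc
    exact ⟨hEN.trans hNB, hKB.trans (Helper72.le_fittingOf hB.le hEN hB.pg.isNilpotent)⟩
  · have hcen := c.comm_le_centralizer hG hκ hE hKE h1
    have hKp : IsPGroup (Nat.card K) K := IsPGroup.of_card (n := 1) (by rw [pow_one])
    have hKab : K ≤ centralizer (K : Set G) :=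
      le_centralizer_iff_isMulCommutative.2 (elemAb_of_card_prime hkp rfl).1
    have hEK : E ≤ normalizer (K : Set G) := by
      rw [le_normalizer_iff]
      intro e he a ha
      by_contra hnot
      have h2 : e * a * e⁻¹ = ⁅e, a⁆ * a := by rw [commutatorElement_def]; group
      have h3 : e * a * e⁻¹ ∈ centralizer (K : Set G) := by
        rw [h2]
        exact mul_mem (hcen (commutator_mem_commutator he (hKE ha))) (hKab ha)
      have h4 : (e * a * e⁻¹) ^ Nat.card K = 1 := by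
        rw [conj_pow]
        have := pow_card_eq_one' (G := K) (x := ⟨a, ha⟩)
        have h5 : a ^ Nat.card K = 1 := congrArg Subtype.val this
        rw [h5]
        group
      obtain ⟨h5, h6⟩ := elemAb_sq_of hkp rfl h3 h4 hnot
      refine not_pRankLE_of_le (F := K ⊔ zpowers (e * a * e⁻¹)) ?_ h5.1 h5.2 ?_ h1
      · refine sup_le (hKE.trans hE.1) (zpowers_le.2 (hE.1 ?_))
        exact mul_mem (mul_mem he (hKE ha)) (inv_mem he)
      · rw [h6]
        exact Nat.pow_lt_pow_right hkp.one_lt (by norm_num)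
    exact ⟨hEK.trans (Q1 hG c.hL c.hKstH hKs1 (le_of_eq c.hKst) c.hK1),
      Helper72.le_fittingOf hKE hEK hKp.isNilpotent⟩

theorem pI (hG : IsMinSimpleOddOrder G) (hK : PK G) : PI G := by
  intro M K U L H c
  obtain ⟨hκ, hσ, -, -, hscL⟩ := hK M K U L H c
  have hU := hU_of hG
  obtain ⟨hkp, hkL, hkU, hKσ⟩ := c.toCfg.K_facts hG
  have hkH : Nat.card K ∉ sigma H := fun h => (hσ _ h).2 hkL
  obtain ⟨E, hE, hKE⟩ := exists_compl_ge hG hU c.hH c.hKH (by
    intro r hr hd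
    rwa [(Nat.prime_dvd_prime_iff_eq hr hkp).1 hd])
  obtain ⟨hEL, hKF⟩ := c.compl_le hG hκ hE hKE
  have hEq : H ⊓ L = E := by
    apply le_antisymm _ (le_inf hE.1 hEL)
    intro h hh
    obtain ⟨a, ha, b, hb, rfl⟩ := hE.2.2.2 h (mem_inf.1 hh).1
    have hbL : b ∈ L := by
      have := mul_mem (inv_mem (hEL ha)) (mem_inf.1 hh).2
      simpa using this
    have hb1 : b ∈ sigmaCore H ⊓ L := mem_inf.2 ⟨hb, hbL⟩
    rw [hscL, mem_bot] at hb1
    rw [hb1, mul_one]
    exact ha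
  rw [hEq]
  exact ⟨hKF, hE⟩

end Cfsg.Agent.Lib.Helper25.P2
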