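/-
Helper library (helper25 farm, piece I along the original plan, by helper20): `H ∩ L` is a complement
of `H_σ` in `H` and `K ≤ F(H ∩ L)`.
-/
import Cfsg.Agent.Lib.Helper25.P2.D1
import Cfsg.Agent.Lib.Helper72.BG37b
import Cfsg.Agent.Lib.Helper26.BGTypesA

set_option autoImplicit false
set_option linter.unusedSimpArgs false
set_option linter.unusedVariables false
set_option linter.style.haveILetI false
set_option linter.unusedSectionVars false

namespace Cfsg.Agent.Lib.Helper25.P2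

open Subgroup Cfsg
open Cfsg.Agent.Lib
open Cfsg.Agent.Lib.Helper24 Cfsg.Agent.Lib.Helper34 Cfsg.Agent.Lib.Helper31.BG11
open Cfsg.Agent.Lib.Helper34.BG13 Cfsg.Agent.Lib.Helper34.BG16 Cfsg.Agent.Lib.Helper10.BG124
open Cfsg.Agent.Lib.Helper20.BG14

universe u

variable {G : Type u} [Group G] [Finite G]

theorem pI20 (hG : IsMinSimpleOddOrder G) (R : Rows G) (hC0 : PC0 G) (hK : PK G) (hG1 : PG1 G)
    (hG2 : PG2 G) : PI G := by
  intro M K U L H c
  have hU := ut hG
  have c' : Cfg M K U L := c.toCfg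
  obtain ⟨-, -, -, hC4⟩ := hC0 M K U L c'
  obtain ⟨-, hσ, -, -, hσL⟩ := hK M K U L H c
  have hcop : (Nat.card K).Coprime (Nat.card (sigmaCore H)) := by
    apply Nat.coprime_of_dvd
    intro q hq h1 h2
    exact (hσ q (sc_primes H hq h2)).2 (hC4 q hq h1)
  obtain ⟨E, hE, hKE⟩ := Helper31.BG11.exists_compl_ge hG hU c.hH c.hKH hcop
  have hEL : E ≤ L := by
    by_cases hτ : tau2 H = ∅
    · exact hG2 M K U L H c E hE hKE hτ
    · obtain ⟨t, ht⟩ := Set.nonempty_iff_ne_empty.mpr hτ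
      exact (hG1 M K U L H c E hE hKE t ht).1
  constructor
  · -- `K ≤ F(H ∩ L)`
    set Ks := sigmaCore M ⊓ centralizer (K : Set G) with hKs
    have h68 := (R.h1368 M c.hM K U c.hKU c.hK1 L c.hL c.hKst c.hKstH).2
    have hKsc : IsCyclic Ks := by
      have hle : Ks ≤ K ⊔ Ks := le_sup_right
      have : IsCyclic (Ks.subgroupOf (K ⊔ Ks)) := Subgroup.isCyclic _
      exact isCyclic_of_surjective (Subgroup.subgroupOfEquivOfLe hle).toMonoidHom
        (Subgroup.subgroupOfEquivOfLe hle).surjective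
    have hKs1 : Ks ≠ ⊥ := (R.h1354 M c.hM K c.hKU.cyclic c.hKU.hall).1
    obtain ⟨Us, hUs⟩ := (R.h1352 L c.hL Ks hKsc c.hKstH).1
    have h64 := (R.h1364 L c.hL Ks Us hUs hKs1).2.2.1
    have hKF : K ≤ fittingHallOf L := by
      have h := c.hKst
      rw [h]
      exact h64
    have hle : fittingHallOf L ⊓ H ≤ H ⊓ L :=
      le_inf inf_le_right (inf_le_left.trans (Helper26.BGTypes.fh_le L))
    refine (le_inf hKF c.hKH).trans (Helper72.le_fittingOf hle ?_ ?_)
    · intro g hg
      have hgH : g ∈ H := (mem_inf.mp hg).1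
      have h1 := Helper26.BGTypes.fh_norm L (mem_inf.mp hg).2
      rw [mem_normalizer_iff] at h1 ⊢
      intro z
      constructor
      · intro hz
        have hz' := mem_inf.mp hz
        exact mem_inf.mpr ⟨(h1 z).mp hz'.1, mul_mem (mul_mem hgH hz'.2) (inv_mem hgH)⟩
      · intro hz
        have hz' := mem_inf.mp hz
        refine mem_inf.mpr ⟨(h1 z).mpr hz'.1, ?_⟩
        have := mul_mem (mul_mem (inv_mem hgH) hz'.2) hgH
        simpa [mul_assoc] using this
    · haveI := Helper26.BGTypes.fh_nil L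
      have h2 : Group.IsNilpotent ((fittingHallOf L ⊓ H).subgroupOf (fittingHallOf L)) :=
        Subgroup.isNilpotent _
      exact Group.nilpotent_of_mulEquiv (subgroupOfEquivOfLe inf_le_left)
  · refine ⟨inf_le_left, sc_le H, ?_, ?_⟩
    · rw [eq_bot_iff, ← hσL]
      intro z hz
      exact ⟨hz.2, hz.1.2⟩
    · intro m hm
      obtain ⟨a, ha, b, hb, rfl⟩ := hE.2.2.2 m hm
      exact ⟨a, ⟨hE.1 ha, hEL ha⟩, b, hb, rfl⟩

end Cfsg.Agent.Lib.Helper25.P2
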