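/-
Helper library (helper25 farm, piece K by helper20): `κ(H) = ∅`, `H_σ` nilpotent, `H_σ ∩ L = 1`.
-/
import Cfsg.Agent.Lib.Helper25.P2.Defs
import Cfsg.Agent.Lib.Helper20.BG146e
import Cfsg.Agent.Lib.Helper23.BGT2
import Cfsg.Agent.S1378
import Cfsg.Agent.S1429

set_option autoImplicit false
set_option linter.unusedSimpArgs false
set_option linter.unusedVariables false
set_option linter.style.haveILetI false
set_option linter.unusedSectionVars false

namespace Cfsg.Agent.Lib.Helper25.P2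

open Subgroup Cfsg
open Cfsg.Agent.Lib
open Cfsg.Agent.Lib.Helper24 Cfsg.Agent.Lib.Helper34 Cfsg.Agent.Lib.Helper31.BG11
open Cfsg.Agent.Lib.Helper34.BG13 Cfsg.Agent.Lib.Helper34.BG16 Cfsg.Agent.Lib.Helper10.BG124
open Cfsg.Agent.Lib.Helper20.BG14

universe u

variable {G : Type u} [Group G] [Finite G]

theorem pK (hG : IsMinSimpleOddOrder G) (R : Rows G) (hB : PB G) (hC0 : PC0 G) : PK G := by
  intro M K U L H c
  have h78 : Helper20.BG14.H1378 G := (Cfsg.Agent.S1378.result hG).2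
  have hU := ut hG
  have c' : Cfg M K U L := c.toCfg
  obtain ⟨-, -, -, hpL⟩ := hC0 M K U L c'
  have hκ : kappa H = ∅ := by
    by_contra hne
    obtain ⟨g, hg | hg⟩ := (R.h1369 M c.hM K U c.hKU c.hK1 L c.hL c.hKst c.hKstH).2 H c.hH
      (Set.nonempty_iff_ne_empty.mpr hne)
    · exact c.hnM g hg
    · exact c.hnL g hg
  have hσ : ∀ q ∈ sigma H, q ∉ sigma M ∧ q ∉ sigma L := by
    intro q hq
    constructor
    · intro h
      obtain ⟨g, hg⟩ := h78 M H c.hM c.hH ⟨q, h, hq⟩
      exact c.hnM g hg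
    · intro h
      obtain ⟨g, hg⟩ := h78 L H c.hL c.hH ⟨q, h, hq⟩
      exact c.hnL g hg
  -- a subgroup of prime order of `K`
  obtain ⟨p, hp, hpd⟩ := Nat.exists_prime_and_dvd (n := Nat.card K) (by
    intro h
    exact c.hK1 (Subgroup.card_eq_one.mp h))
  haveI : Fact p.Prime := ⟨hp⟩
  obtain ⟨k, hk⟩ := exists_prime_orderOf_dvd_card' p hpd
  have hko : orderOf (k : G) = p := by rw [Subgroup.orderOf_coe]; exact hk
  have hK₀ : zpowers (k : G) ≤ K := zpowers_le.mpr k.2
  have hK₀p : (Nat.card (zpowers (k : G))).Prime := by rw [Nat.card_zpowers, hko]; exact hp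
  have hpσL : p ∈ sigma L := hpL p hp hpd
  have hpσH : p ∉ sigma H := fun h => (hσ p h).2 hpσL
  have hpH : p ∣ Nat.card H := hpd.trans (Subgroup.card_dvd_of_le c.hKH)
  have hnil : Group.IsNilpotent (sigmaCore H) := by
    obtain ⟨S⟩ : Nonempty (Sylow p H) := inferInstance
    refine (Cfsg.Agent.S1429.result hG H c.hH ?_ p hpH ?_ S).2.2
    · intro h
      have := h p hp hpH hpσH
      rw [hκ] at this
      exact this
    · rintro (h | h)
      · exact hpσH h
      · rw [hκ] at h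
        exact h
  have hcop : (Nat.card (sigmaCore H)).Coprime (Nat.card (sigmaCore L)) := by
    apply Nat.coprime_of_dvd
    intro q hq h1 h2
    exact (hσ q (sc_primes H hq h1)).2 (sc_primes L hq h2)
  have hbot : sigmaCore H ⊓ sigmaCore L = ⊥ := (Subgroup.disjoint_of_coprime_natCard hcop).eq_bot
  have hKL : K ≤ sigmaCore L := by
    rw [c.hKst]
    exact inf_le_left
  refine ⟨hκ, hσ, hnil, Helper23T.sc_ne_bot hG hU c.hH, ?_⟩
  rw [eq_bot_iff, ← hB M K U L c' (zpowers (k : G)) H hK₀ hK₀p c.hH (hK₀.trans c.hKH) c.hnM c.hnL]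
  intro y hy
  refine ⟨hy.1, ?_⟩
  have hcent : y ∈ centralizer (K : Set G) := by
    rw [mem_centralizer_iff]
    intro z hz
    have h4 : y * z * y⁻¹ * z⁻¹ ∈ sigmaCore H ⊓ sigmaCore L := by
      refine mem_inf.mpr ⟨?_, ?_⟩
      · have : z * y⁻¹ * z⁻¹ ∈ sigmaCore H :=
          (mem_normalizer_iff.mp (sc_norm H (c.hKH hz)) _).mp (inv_mem hy.1)
        have h5 := mul_mem hy.1 this
        simpa [mul_assoc] using h5
      · exact mul_mem ((mem_normalizer_iff.mp (sc_norm L hy.2) _).mp (hKL hz)) (inv_mem (hKL hz))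
    rw [hbot, mem_bot] at h4
    calc z * y = (y * z * y⁻¹ * z⁻¹)⁻¹ * (y * z) := by group
      _ = y * z := by rw [h4]; simp
  exact centralizer_le (by exact_mod_cast hK₀) hcent

end Cfsg.Agent.Lib.Helper25.P2
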