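/-
Helper library (helper25): the rows used by `P2/*`, and the rows S1435, S1363 as `Prop`s.
-/
import Cfsg.Agent.Lib.Helper25.P2.Main
import Cfsg.Agent.Lib.Helper25.P2.A
import Cfsg.Agent.Lib.Helper25.P2.B
import Cfsg.Agent.Lib.Helper25.P2.C0
import Cfsg.Agent.Lib.Helper25.P2.C
import Cfsg.Agent.Lib.Helper25.P2.K
import Cfsg.Agent.Lib.Helper25.P2.D
import Cfsg.Agent.Lib.Helper25.P2.E
import Cfsg.Agent.Lib.Helper25.P2.I
import Cfsg.Agent.S1352
import Cfsg.Agent.S1353
import Cfsg.Agent.S1354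
import Cfsg.Agent.S1364
import Cfsg.Agent.S1366
import Cfsg.Agent.S1367
import Cfsg.Agent.S1368
import Cfsg.Agent.S1369
import Cfsg.Agent.S1430
import Cfsg.Agent.S1431
import Cfsg.Agent.S1432

set_option autoImplicit false

namespace Cfsg.Agent.Lib.Helper25.P2

open Subgroup Cfsg
open Cfsg.Agent.Lib.Helper34.BGRows

universe u

variable {G : Type u} [Group G] [Finite G]

theorem rows (hG : IsMinSimpleOddOrder G) : Rows G where
  h1352 := Cfsg.Agent.S1352.result hG
  h1353 := Cfsg.Agent.S1353.result hG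
  h1354 := Cfsg.Agent.S1354.result hG
  h1364 := Cfsg.Agent.S1364.result hG
  h1366 := Cfsg.Agent.S1366.result hG
  h1367 := Cfsg.Agent.S1367.result hG
  h1368 := Cfsg.Agent.S1368.result hG
  h1369 := Cfsg.Agent.S1369.result hG
  h1430 := Cfsg.Agent.S1430.result hG
  h1431 := Cfsg.Agent.S1431.result hG
  h1432 := Cfsg.Agent.S1432.result hG

theorem hA (hG : IsMinSimpleOddOrder G) : PA G := pA hG (rows hG)
theorem hB (hG : IsMinSimpleOddOrder G) : PB G := pB hG (rows hG)
theorem hC0 (hG : IsMinSimpleOddOrder G) : PC0 G := pC0 hG (rows hG)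
theorem hC (hG : IsMinSimpleOddOrder G) : PC G := pC hG (rows hG) (hA hG) (hC0 hG)
theorem hK (hG : IsMinSimpleOddOrder G) : PK G := pK hG (rows hG) (hB hG) (hC0 hG)
theorem hD (hG : IsMinSimpleOddOrder G) : PD G := pD hG (hK hG)
theorem hE (hG : IsMinSimpleOddOrder G) : PE G := pE hG (hA hG) (hC0 hG) (hK hG) (hD hG)
theorem hI (hG : IsMinSimpleOddOrder G) : PI G := pI hG (hK hG)

theorem h1435 (hG : IsMinSimpleOddOrder G) : H1435 G :=
  row1435 (hC hG) (hK hG) (hD hG) (hE hG) (hI hG)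

theorem h1363 (hG : IsMinSimpleOddOrder G) : H1363 G :=
  row1363 hG (rows hG) (hA hG) (hC hG) (hE hG)

end Cfsg.Agent.Lib.Helper25.P2
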