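/-
Helper library (helper25): piece (Ab) of the farm for row S1376.
-/
import Cfsg.Agent.Lib.Helper25.P2.Defs2
import Cfsg.Agent.Lib.Helper25.P2.Rows
import Cfsg.Agent.Lib.Helper23.BGU14
import Cfsg.Agent.S1456

set_option autoImplicit false
set_option linter.unusedVariables false

namespace Cfsg.Agent.Lib.Helper25.P2

open Subgroup Cfsg
open Cfsg.Agent.Lib
open Cfsg.Agent.Lib.Helper24 Cfsg.Agent.Lib.Helper34 Cfsg.Agent.Lib.Helper31.BG11
open Cfsg.Agent.Lib.Helper34.BG13 Cfsg.Agent.Lib.Helper34.BG16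

universe u

variable {G : Type u} [Group G] [Finite G]

theorem qAb (hG : IsMinSimpleOddOrder G) (hP : QP G) : QAb G := by
  intro M K U L H x c ht
  have hU := hU_of hG
  obtain ⟨hkap, hdisj, hnil, hσ1, -⟩ := hK hG M K U L H c.toHC
  obtain ⟨hMH, -⟩ := hE hG M K U L H c.toHC
  have hH := c.hH
  have hM := c.hM
  -- a power of prime order
  have hox : orderOf x ≠ 1 := fun h => c.hx1 (orderOf_eq_one_iff.1 h)
  set r := (orderOf x).minFac with hr
  have hrp : r.Prime := Nat.minFac_prime hox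
  haveI : Fact r.Prime := ⟨hrp⟩
  set x1 := x ^ (orderOf x / r) with hx1
  have hox1 : orderOf x1 = r :=
    orderOf_pow_orderOf_div (orderOf_pos x).ne' (Nat.minFac_dvd _)
  have hx11 : x1 ≠ 1 := by
    intro h
    rw [h, orderOf_one] at hox1
    exact hrp.one_lt.ne hox1
  have c1 : XC M K U L H x1 := hP M K U L H x c _ hx11
  have hx1H : x1 ∈ H := sc_le H c1.hx
  -- `H' ≤ F(H)`
  haveI : Group.IsSolvable H := MS_solvable hG hH.1
  have hscF : sigmaCore H ≤ fittingOf H := Helper72.le_fittingOf (sc_le H) (sc_norm H) hnil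
  have hrank : ∀ q : ℕ, q.Prime → PRankLE q 2 (U ⊔ K : Subgroup G) := by
    intro q hq
    have hle : U ⊔ K ≤ M := by rw [← hMH]; exact inf_le_left
    by_cases h : PRankLE q 2 M
    · exact pRankLE_mono hle h
    · have hqσ : q ∈ sigma M := alpha_subset_sigma hG hU hM ⟨hq, h⟩
      rw [pRankLE_iff]
      intro F hF _ hexp
      haveI : Fact q.Prime := ⟨hq⟩
      have hFp : IsPGroup q F := fun a => ⟨1, by rw [pow_one]; exact Subtype.ext (hexp a a.2)⟩
      obtain ⟨n, hn⟩ := IsPGroup.iff_card.1 hFp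
      rcases Nat.eq_zero_or_pos n with h0 | h0
      · rw [hn, h0, pow_zero]; exact Nat.one_le_pow _ _ hq.pos
      · exfalso
        apply compl_not_sigma hG hU hM (isComplIn_sup hG hM c.hKU) hq _ hqσ
        refine Dvd.dvd.trans ?_ (Subgroup.card_dvd_of_le hF)
        rw [hn]
        exact dvd_pow_self q h0.ne'
  have hcomm : commutator ↥H ≤ fittingSubgroup ↥H := by
    apply Cfsg.Agent.S1456.result (MS_odd hG H) r (zpowers (⟨x1, hx1H⟩ : H))
    · rw [zpowers_le]
      obtain ⟨y, hy, hyx⟩ := hscF c1.hx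
      have : y = ⟨x1, hx1H⟩ := Subtype.ext hyx
      rwa [← this]
    · refine ⟨inferInstance, ?_⟩
      intro a ha
      obtain ⟨k, rfl⟩ := mem_zpowers_iff.1 ha
      rw [← zpow_natCast, ← zpow_mul, mul_comm, zpow_mul, zpow_natCast]
      have : (⟨x1, hx1H⟩ : H) ^ r = 1 := by
        apply Subtype.ext
        simp only [SubmonoidClass.mk_pow, OneMemClass.coe_one]
        rw [← hox1]; exact pow_orderOf_eq_one x1
      rw [this, one_zpow]
    · intro q hq
      set R : Subgroup ↥H :=
        fittingSubgroup ↥H ⊓ centralizer ((zpowers (⟨x1, hx1H⟩ : H) : Subgroup ↥H) : Set ↥H) with hR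
      have hRle : R.map H.subtype ≤ U ⊔ K := by
        rw [← hMH]
        rintro _ ⟨y, hy, rfl⟩
        refine mem_inf.2 ⟨c1.hxM ?_, y.2⟩
        rw [mem_centralizer_singleton_iff]
        have h1 := (mem_centralizer_iff.1 (mem_inf.1 hy).2) ⟨x1, hx1H⟩ (mem_zpowers _)
        have h2 := congrArg Subtype.val h1
        simpa using h2.symm
      exact (Helper23.pRankLE_congr q 2
        (R.equivMapOfInjective H.subtype H.subtype_injective)).2 (pRankLE_mono hRle (hrank q hq))
  have hHF : ⁅H, H⁆ ≤ fittingOf H := by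
    rw [← Subgroup.map_subtype_commutator]
    exact Subgroup.map_mono hcomm
  -- `F(H) ≤ H_σ`
  refine hHF.trans ?_
  apply le_sc_of_primes hG hU hH (Helper23U.fittingOf_le H)
  intro q hq hd
  by_contra hqσ
  haveI : Fact q.Prime := ⟨hq⟩
  obtain ⟨y, hy⟩ := exists_prime_orderOf_dvd_card' (G := fittingOf H) q hd
  have hyo : orderOf (y : G) = q := by rw [Subgroup.orderOf_coe]; exact hy
  have hr1 : PRankLE q 1 H := by
    rcases tau2_or_rank_one hG hU hH hq hqσ with h | h
    · rw [ht] at h; exact absurd h (Set.notMem_empty _)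
    · exact h
  have hcop : (orderOf (y : G)).Coprime (orderOf x1) := by
    rw [hyo, hox1]
    apply (Nat.coprime_primes hq hrp).2
    rintro rfl
    apply hqσ
    apply sc_primes H hq
    rw [← hox1]
    have := orderOf_dvd_natCard (⟨x1, c1.hx⟩ : sigmaCore H)
    rwa [Subgroup.orderOf_mk] at this
  have hcm : (y : G) * x1 = x1 * y :=
    Helper25.commute_of_coprime_orderOf_of_mem (Helper23U.fittingOf_nilpotent H) y.2
      (hscF c1.hx) hcop
  have := mem_kappa_of hG hH hq hqσ hr1 (Helper23U.fittingOf_le H y.2) hyo c1.hx hx11 hcm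
  rw [hkap] at this
  exact absurd this (Set.notMem_empty _)

end Cfsg.Agent.Lib.Helper25.P2
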