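/-
Helper library (helper25 farm for S1376, piece N by helper52).
-/
import Cfsg.Agent.Lib.Helper25.P2.Defs2
import Cfsg.Agent.Lib.Helper25.P2.D

set_option autoImplicit false
set_option linter.unusedSimpArgs false
set_option linter.unusedVariables false
set_option linter.style.haveILetI false
set_option linter.unusedSectionVars false

namespace Cfsg.Agent.Lib.Helper25.P2

open Subgroup Cfsg
open Cfsg.Agent.Lib
open Cfsg.Agent.Lib.Helper24 Cfsg.Agent.Lib.Helper34 Cfsg.Agent.Lib.Helper31.BG11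
open Cfsg.Agent.Lib.Helper34.BG13 Cfsg.Agent.Lib.Helper34.BG16
open Cfsg.Agent.Lib.Helper52.BG14
open scoped commutatorElement

universe u

variable {G : Type u} [Group G] [Finite G]

theorem qN (hG : IsMinSimpleOddOrder G) : QN G := by
  intro M K U L c Q D hkp hQp hQi hLQ hQD hLQ0 hKD
  haveI : Fact (Nat.card K).Prime := ⟨hkp⟩
  have hU := hU_of hG
  have hKs1 : Kst M K ≠ ⊥ := Kst_ne_bot hG c.hM c.hKU.hall c.hK1
  have hKsH : IsPiHallOf (kappa L) (Kst M K) L := c.hKstH
  have hKeq : K = Kst L (Kst M K) := c.hKst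
  have hKσ : K ≤ sigmaCore L := (le_of_eq c.hKst).trans inf_le_left
  have hkL : Nat.card K ∈ sigma L := sc_primes L hkp (card_dvd_of_le hKσ)
  have hsolv : Group.IsSolvable (sigmaCore L) := Helper52.BG15.sc_solvable hG c.hL
  have hpD : ¬ Nat.card K ∣ Nat.card D := by
    rwa [Helper23.complIn_relIndex_left hQD] at hQi
  have hDhall : IsPiHallOf {q | q ≠ Nat.card K} D (sigmaCore L) := by
    refine ⟨hQD.2.1, ?_, ?_⟩
    · intro q hq hd h
      exact hpD (h ▸ hd)
    · intro q hq hne hd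
      rw [Helper23.complIn_relIndex_right hQD] at hd
      obtain ⟨n, hn⟩ := IsPGroup.iff_card.1 hQp
      rw [hn] at hd
      exact hne ((Nat.prime_dvd_prime_iff_eq hq hkp).1 (hq.dvd_of_dvd_pow hd))
  obtain ⟨D₁, hD₁, hKsD₁⟩ := Helper62.exists_invariant_hall (Kst M K) (sigmaCore L)
    (hKsH.1.trans (sc_norm L)) (coprime_K_sc hKsH) hsolv {q | q ≠ Nat.card K}
  obtain ⟨y, hy, hyD⟩ := Helper62.IsPiHallOf.exists_conj hsolv hDhall hD₁
  have hyD' : cj y D = D₁ := hyD
  have hyL : y ∈ L := sc_le L hy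
  have hpD₁ : ¬ Nat.card K ∣ Nat.card D₁ := fun h => hD₁.2.1 _ hkp h rfl
  have hKQ : K ≤ Q := le_of_normal_of_not_dvd hQD.1 ((sc_le L).trans hLQ) hQi hKσ
    (IsPGroup.of_card (n := 1) (by rw [pow_one]))
  -- `K` centralizes `D₁`
  have hKD₁ : K ≤ centralizer (D₁ : Set G) := by
    intro k hk
    have h1 : k ∈ Q ⊓ centralizer (D : Set G) := mem_inf.2 ⟨hKQ hk, hKD hk⟩
    have h2 : y * k * y⁻¹ ∈ Q ⊓ centralizer (D : Set G) := le_normalizer_iff.mp hLQ0 y hyL k h1
    have h3 : y⁻¹ * k * y ∈ Q ⊓ centralizer (D : Set G) := by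
      have := le_normalizer_iff.mp hLQ0 y⁻¹ (inv_mem hyL) k h1
      simpa using this
    rw [← hyD', centralizer_map_conj, mem_map_conj]
    exact (mem_inf.1 h3).2
  have key : Q ≤ centralizer (D₁ : Set G) := by
    by_cases hD₁1 : D₁ = ⊥
    · rw [hD₁1]
      intro a _
      rw [mem_centralizer_iff]
      intro h hh
      rw [SetLike.mem_coe, mem_bot] at hh
      rw [hh, one_mul, mul_one]
    refine Helper24.BG13F.frob_centralizes hD₁1 hKs1 hKsD₁ ?_ ((hD₁.1.trans (sc_le L)).trans hLQ)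
      (hKsH.1.trans hLQ) (MS_solvable hG (MS_isPGroup_ne_top hG hQp)) ?_ ?_
    · intro e he he1 u hu heu
      have h1 : u ∈ sigmaCore L ⊓ centralizer ({e} : Set G) := by
        refine mem_inf.2 ⟨hD₁.1 hu, ?_⟩
        rw [mem_centralizer_singleton_iff]
        exact heu.symm
      rw [P1 hG c.hL hKsH hKs1 he he1, ← hKeq] at h1
      by_contra hu1
      apply hpD₁
      have h2 := Helper52.BG15.orderOf_eq_of_card_prime hkp rfl h1 hu1
      rw [← h2]
      exact orderOf_dvd_card_of_mem hu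
    · obtain ⟨n, hn⟩ := IsPGroup.iff_card.1 hQp
      rw [hn]
      apply Nat.Coprime.pow_left
      rw [Nat.Prime.coprime_iff_not_dvd hkp]
      intro hd
      rw [sup_comm] at hd
      have h1 := hd.trans (Helper1.card_sup_dvd hKsD₁)
      rcases (Nat.Prime.dvd_mul hkp).1 h1 with h | h
      · exact kappa_not_sigma (hKsH.2.1 _ hkp h) hkL
      · exact hpD₁ h
    · have h1 : Q ⊓ centralizer ((Kst M K : Subgroup G) : Set G) ≤ K := by
        conv_rhs => rw [hKeq]
        exact inf_le_inf_right _ hQD.1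
      exact h1.trans hKD₁
  intro a ha
  have h1 : y * a * y⁻¹ ∈ centralizer (D₁ : Set G) := key (le_normalizer_iff.mp hLQ y hyL a ha)
  rw [← hyD', centralizer_map_conj, mem_map_conj] at h1
  have h2 : y⁻¹ * (y * a * y⁻¹) * y = a := by group
  rwa [h2] at h1

end Cfsg.Agent.Lib.Helper25.P2
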