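/-
Helper library (helper25 farm for S1376, pieces P TI Fr by helper52).
-/
import Cfsg.Agent.Lib.Helper25.P2.Defs2
import Cfsg.Agent.Lib.Helper52.BG15b
import Cfsg.Agent.Lib.Helper52.FPF
import Cfsg.Agent.Lib.Helper23.BGU5
import Cfsg.Agent.S1375
import Cfsg.Agent.S1355

set_option autoImplicit false
set_option linter.unusedSimpArgs false
set_option linter.unusedVariables false
set_option linter.style.haveILetI false
set_option linter.unusedSectionVars false

namespace Cfsg.Agent.Lib.Helper25.P2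

open Subgroup Cfsg
open Cfsg.Agent.Lib
open Cfsg.Agent.Lib.Helper24 Cfsg.Agent.Lib.Helper34 Cfsg.Agent.Lib.Helper31.BG11
open Cfsg.Agent.Lib.Helper34.BG13 Cfsg.Agent.Lib.Helper34.BG16
open Cfsg.Agent.Lib.Helper52.BG14
open scoped commutatorElement Pointwise

universe u

variable {G : Type u} [Group G] [Finite G]

theorem centralizer_le_centralizer_pow52 (x : G) (n : ℕ) :
    centralizer ({x} : Set G) ≤ centralizer ({x ^ n} : Set G) := by
  intro g hg
  rw [mem_centralizer_singleton_iff] at hg ⊢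
  exact ((show Commute g x from hg).pow_right n).eq

theorem qP (hG : IsMinSimpleOddOrder G) : QP G := by
  intro M K U L H x c n hn
  have hle := centralizer_le_centralizer_pow52 x n
  have hxn : x ^ n ∈ sigmaCore H := pow_mem c.hx n
  have hnH : ¬ centralizer ({x ^ n} : Set G) ≤ H := fun h => c.hxH (hle.trans h)
  refine ⟨c.toHC, hxn, hn, ?_, hnH⟩
  obtain ⟨N₁, ⟨hN₁, hN₁c⟩, -⟩ := Cfsg.Agent.S1375.result hG H c.hH (x ^ n) hxn hn hnH
  obtain ⟨N, -, huniq, -⟩ := Cfsg.Agent.S1375.result hG H c.hH x c.hx c.hx1 c.hxH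
  have h1 : N₁ = N := huniq N₁ hN₁ (hle.trans hN₁c)
  have h2 : M = N := huniq M c.hM c.hxM
  rw [h2, ← h1]
  exact hN₁c

theorem qTI (hG : IsMinSimpleOddOrder G) : QTI G := by
  intro H x hH hx hx1 hxH hnil hTI
  have hU := hU_of hG
  have hhall := sc_hall hG hU hH
  have hle : sigmaCore H ≤ fittingHallOf H :=
    Helper23U.le_fittingHallOf (sc_le H) (sc_norm H) hnil
      (Nat.coprime_of_dvd fun k hk h1 h2 => hhall.2.2 k hk (hhall.2.1 k hk h1) h2)
  have hF1 : fittingHallOf H ≠ ⊥ := by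
    intro h
    rw [h] at hle
    exact hx1 (mem_bot.1 (hle hx))
  have hFt : fittingHallOf H ≠ ⊤ := by
    intro h
    exact hH.1 (top_le_iff.1 (h ▸ Helper23.fittingHallOf_le H))
  have hN : normalizer (fittingHallOf H : Set G) = H := by
    by_contra hne
    have h1 : H < normalizer (fittingHallOf H : Set G) :=
      lt_of_le_of_ne (Helper23U.fittingHallOf_norm H) (Ne.symm hne)
    exact MS_normalizer_ne_top hG hF1 hFt (hH.2 _ h1)
  apply hxH
  intro g hg
  by_contra hgH
  apply hx1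
  refine hTI g (by rw [hN]; exact hgH) x (hle hx) ?_
  rw [mem_centralizer_singleton_iff] at hg
  have : g * x * g⁻¹ = x := by rw [hg]; group
  rw [this]
  exact hle hx

theorem qFr (hG : IsMinSimpleOddOrder G) : QFr G := by
  intro H hH hκ hτ hder
  have hU := hU_of hG
  obtain ⟨E, hE⟩ := exists_compl hG hU hH
  have hsc1 := Helper23T.sc_ne_bot hG hU hH
  obtain ⟨-, -, hscder, hderlt, -⟩ := Cfsg.Agent.S1355.result hG H hH
  have hE1 : E ≠ ⊥ := by
    rintro rfl
    apply hderlt.ne
    apply le_antisymm hderlt.le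
    intro h hh
    obtain ⟨a, ha, b, hb, rfl⟩ := hE.2.2.2 h hh
    rw [mem_bot] at ha
    rw [ha, one_mul]
    exact hscder hb
  have hEH : E ≠ H := by
    rintro rfl
    apply hsc1
    rw [← hE.2.2.1]
    exact (inf_eq_right.2 (sc_le E)).symm
  have hrank : ∀ r : ℕ, r.Prime → r ∣ Nat.card E → r ∉ sigma H ∧ PRankLE r 1 H := by
    intro r hr hd
    have hσ := compl_not_sigma hG hU hH hE hr hd
    refine ⟨hσ, (tau2_or_rank_one hG hU hH hr hσ).resolve_left ?_⟩
    rw [hτ]
    exact Set.notMem_empty r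
  have hcomm : ∀ a ∈ E, ∀ b ∈ E, a * b = b * a := by
    intro a ha b hb
    have h1 : ⁅a, b⁆ ∈ E ⊓ sigmaCore H := by
      refine mem_inf.2 ⟨?_, hder (commutator_mem_commutator (hE.1 ha) (hE.1 hb))⟩
      rw [commutatorElement_def]
      exact mul_mem (mul_mem (mul_mem ha hb) (inv_mem ha)) (inv_mem hb)
    rw [hE.2.2.1, mem_bot] at h1
    exact commutatorElement_eq_one_iff_mul_comm.1 h1
  have hcyc : IsCyclic E := by
    by_contra hnc
    let _ : CommGroup E :=
      { (inferInstance : Group E) with mul_comm := fun a b => Subtype.ext (hcomm a a.2 b b.2) }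
    obtain ⟨r, c, d, hr, hc, hd, hcd⟩ := Helper52.exists_rank_two (A := E) hnc
    have hXc : Nat.card (zpowers (d : G)) = r := by
      rw [Nat.card_zpowers, Subgroup.orderOf_coe, hd]
    have hrd : r ∣ Nat.card E := by
      rw [← hd]
      exact orderOf_dvd_natCard d
    have h1 : (c : G) ∈ centralizer ((zpowers (d : G) : Subgroup G) : Set G) := by
      apply mem_centralizer_zpowers
      exact hcomm c c.2 d d.2
    have h2 : (c : G) ^ r = 1 := by
      have := congrArg Subtype.val hc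
      simpa using this
    have h3 : (c : G) ∉ zpowers (d : G) := by
      rintro ⟨n, hn⟩
      apply hcd
      exact ⟨n, Subtype.ext (by simpa using hn)⟩
    obtain ⟨h5, h6⟩ := elemAb_sq_of hr hXc h1 h2 h3
    refine not_pRankLE_of_le (F := zpowers (d : G) ⊔ zpowers (c : G)) ?_ h5.1 h5.2 ?_ (hrank r hr hrd).2
    · exact sup_le (zpowers_le.2 (hE.1 d.2)) (zpowers_le.2 (hE.1 c.2))
    · rw [h6]
      exact Nat.pow_lt_pow_right hr.one_lt (by norm_num)
  have hreg : ∀ e ∈ E, e ≠ 1 → ∀ y ∈ sigmaCore H, e * y = y * e → y = 1 := by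
    intro e he he1 y hy hey
    by_contra hy1
    have ho : orderOf e ≠ 1 := fun h => he1 (orderOf_eq_one_iff.1 h)
    obtain ⟨r, hr, hrd⟩ := Nat.exists_prime_and_dvd ho
    obtain ⟨m, hm⟩ := hrd
    have hwo : orderOf (e ^ m) = r := by
      have hm0 : m ≠ 0 := by
        rintro rfl
        rw [mul_zero] at hm
        exact (orderOf_pos e).ne' hm
      rw [orderOf_pow_of_dvd hm0 ⟨r, by rw [hm, mul_comm]⟩, hm]
      exact Nat.mul_div_cancel _ (Nat.pos_of_ne_zero hm0)
    have hrE : r ∣ Nat.card E := by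
      rw [← hwo]
      exact orderOf_dvd_card_of_mem (pow_mem he m)
    obtain ⟨hσ, h1⟩ := hrank r hr hrE
    have := mem_kappa_of hG hH hr hσ h1 (hE.1 (pow_mem he m)) hwo hy hy1
      ((show Commute e y from hey).pow_left m).eq
    rw [hκ] at this
    exact this
  refine ⟨E.subgroupOf H, ⟨?_, ?_, ?_⟩, ?_⟩
  · intro h
    rw [subgroupOf_eq_bot, disjoint_iff, inf_eq_left.2 hE.1] at h
    exact hE1 h
  · intro h
    rw [subgroupOf_eq_top] at h
    exact hEH (le_antisymm hE.1 h)
  · intro g hg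
    rw [eq_bot_iff_forall]
    intro a ha
    obtain ⟨ha1, ha2⟩ := mem_inf.1 ha
    rw [Subgroup.mem_pointwise_smul_iff_inv_smul_mem] at ha2
    have ha2' : g⁻¹ * a * g ∈ E.subgroupOf H := by
      simpa [MulAut.smul_def, MulAut.conj_inv_apply] using ha2
    rw [mem_subgroupOf] at ha1 ha2' hg
    obtain ⟨e, he, y, hy, hgey⟩ := hE.2.2.2 (g : G) g.2
    have hy1 : y ≠ 1 := by
      rintro rfl
      rw [mul_one] at hgey
      exact hg (hgey ▸ he)
    -- `b = g⁻¹ a g ∈ E`
    set b : G := (g : G)⁻¹ * (a : G) * (g : G) with hb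
    have hbE : b ∈ E := by simpa using ha2'
    have hyb : y * b * y⁻¹ ∈ E := by
      have h1 : y * b * y⁻¹ = e⁻¹ * (a : G) * e := by
        rw [hb, hgey]; group
      rw [h1]
      exact mul_mem (mul_mem (inv_mem he) ha1) he
    have h2 : y * b * y⁻¹ * b⁻¹ ∈ E ⊓ sigmaCore H := by
      refine mem_inf.2 ⟨mul_mem hyb (inv_mem hbE), ?_⟩
      have h3 : y * b * y⁻¹ * b⁻¹ = y * (b * y⁻¹ * b⁻¹) := by group
      rw [h3]
      exact mul_mem hy (le_normalizer_iff.mp (sc_norm H) b (hE.1 hbE) y⁻¹ (inv_mem hy))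
    rw [hE.2.2.1, mem_bot] at h2
    have h4 : b * y = y * b := by
      calc b * y = (y * b * y⁻¹ * b⁻¹)⁻¹ * (y * b) := by group
        _ = y * b := by rw [h2, inv_one, one_mul]
    have hb1 : b = 1 := by
      by_contra hb1
      exact hy1 (hreg b hbE hb1 y hy h4)
    apply Subtype.ext
    have : (a : G) = (g : G) * b * (g : G)⁻¹ := by rw [hb]; group
    rw [this, hb1]
    simp
  · exact isCyclic_of_surjective (subgroupOfEquivOfLe hE.1).symm.toMonoidHom
      (MulEquiv.surjective _)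

end Cfsg.Agent.Lib.Helper25.P2
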