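/-
Helper library (helper25): piece (S) of the farm for row S1376.
-/
import Cfsg.Agent.Lib.Helper25.P2.Defs2
import Cfsg.Agent.Lib.Helper25.P2.Rows
import Cfsg.Agent.Lib.Helper26.BGTypesC
import Cfsg.Agent.S1351
import Cfsg.Agent.S1375

set_option autoImplicit false
set_option linter.unusedVariables false

namespace Cfsg.Agent.Lib.Helper25.P2

open Subgroup Cfsg
open Cfsg.Agent.Lib
open Cfsg.Agent.Lib.Helper24 Cfsg.Agent.Lib.Helper34 Cfsg.Agent.Lib.Helper31.BG11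
open Cfsg.Agent.Lib.Helper34.BG13 Cfsg.Agent.Lib.Helper34.BG16

universe u

variable {G : Type u} [Group G] [Finite G]

theorem qS (hG : IsMinSimpleOddOrder G) : QS G := by
  intro H x M hH hx hx1 hxH hM hxM hk
  have hU := hU_of hG
  obtain ⟨N, ⟨hN, hxN⟩, huniq, -, -, -, hcompl, hdec⟩ :=
    Cfsg.Agent.S1375.result hG H hH x hx hx1 hxH
  have hMN : M = N := huniq M hM hxM
  subst hMN
  obtain ⟨⟨K1, hK1⟩, hcyc⟩ := Cfsg.Agent.S1351.result hG M hM
  obtain ⟨⟨U1, hU1⟩, -⟩ := Cfsg.Agent.S1352.result hG M hM K1 (hcyc K1 hK1) hK1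
  have hc1 := isComplIn_sup hG hM hU1
  have hcard : Nat.card (H ⊓ M : Subgroup G) = Nat.card (U1 ⊔ K1 : Subgroup G) := by
    have h1 := Helper23.complIn_card_mul hcompl
    rw [← Helper23.complIn_card_mul hc1] at h1
    exact Nat.eq_of_mul_eq_mul_right Nat.card_pos h1
  have hcop : (Nat.card (U1 ⊔ K1 : Subgroup G)).Coprime ((U1 ⊔ K1 : Subgroup G).relIndex M) := by
    have h1 := Helper26.BGTypes.sc_cop hG hM
    rw [Helper23.complIn_relIndex_right hc1] at h1
    rw [Helper23.complIn_relIndex_left hc1]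
    exact h1.symm
  obtain ⟨m, hm, hmc⟩ := Helper1.hall_conj_rel M (MS_solvable hG hM.1) (U1 ⊔ K1) (H ⊓ M)
    hc1.1 hcompl.1 hcop hcard
  have hmc' : cj m (U1 ⊔ K1) = H ⊓ M := hmc
  have hKU := Helper26.BGTypes.decomp_conj hG hM hU1 hm
  obtain ⟨hU1', -, hxσ⟩ := hdec _ _ hKU
  have hKne : cj m K1 ≠ ⊥ := by
    intro h0
    obtain ⟨p, hp⟩ := hk
    have h1 := hKU.hall.2.2 p hp.1 hp
    apply h1
    rw [h0, Subgroup.relIndex_bot_left]
    exact hp.2.1
  obtain ⟨L, ⟨hL, hKst, hKstH⟩, -⟩ := Cfsg.Agent.S1366.result hG M hM _ _ hKU hKne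
  have c : Cfg M (cj m K1) (cj m U1) L := ⟨hM, hKU, hKne, hU1', hL, hKst, hKstH⟩
  have hUH : cj m U1 ≤ H := ((cj_mono m le_sup_left).trans (le_of_eq hmc')).trans inf_le_left
  have hKH : cj m K1 ≤ H := ((cj_mono m le_sup_right).trans (le_of_eq hmc')).trans inf_le_left
  refine ⟨cj m K1, cj m U1, L, c, hH, hUH, hKH, ?_, ?_⟩
  · intro g hg
    apply hxσ
    have hxM' : x ∈ M := hxM (mem_centralizer_singleton_iff.2 rfl)
    have h1 : zpowers x ≤ sigmaCore M := by
      apply le_sc_of_primes hG hU hM ((zpowers_le).2 hxM')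
      intro r hr hd
      have h2 : r ∈ sigma H :=
        sc_primes H hr (hd.trans (Subgroup.card_dvd_of_le ((zpowers_le).2 hx)))
      rw [hg] at h2
      exact (sigma_cj_iff g).1 h2
    exact h1 (mem_zpowers x)
  · intro g hg
    obtain ⟨h1, h2, -, -⟩ := hC0 hG M _ _ L c
    have h3 : L.map (MulAut.conj g).toMonoidHom = L := by
      apply h1 g
      rw [← hg, inf_eq_left.2 hKH]
      exact hKne
    rw [h3] at hg
    apply hU1'
    rw [eq_bot_iff, ← h2]
    exact le_inf le_rfl (hg ▸ hUH)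

end Cfsg.Agent.Lib.Helper25.P2
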