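/-
Helper library (helper25 farm, piece X by helper20): `C_B(K₀) ≠ 1` for `B ∈ E_s²(E)`, `s ∈ τ₂(H)`.
-/
import Cfsg.Agent.Lib.Helper25.P2.Defs
import Cfsg.Agent.Lib.Helper20.BG146e

set_option autoImplicit false
set_option linter.unusedSimpArgs false
set_option linter.unusedVariables false
set_option linter.style.haveILetI false
set_option linter.unusedSectionVars false

namespace Cfsg.Agent.Lib.Helper25.P2

open Subgroup Cfsg
open Cfsg.Agent.Lib
open Cfsg.Agent.Lib.Helper24 Cfsg.Agent.Lib.Helper34 Cfsg.Agent.Lib.Helper31.BG11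
open Cfsg.Agent.Lib.Helper34.BG13 Cfsg.Agent.Lib.Helper34.BG16 Cfsg.Agent.Lib.Helper10.BG124
open Cfsg.Agent.Lib.Helper20.BG14

universe u

variable {G : Type u} [Group G] [Finite G]

theorem pX (hG : IsMinSimpleOddOrder G) (hB : PB G) (hK : PK G) : PX G := by
  intro M K U L H c E K₀ B hE hK₀ hK₀p hK₀E s hs hBE hBel hBc hbot
  have hsp : s.Prime := hs.1
  haveI : Fact s.Prime := ⟨hsp⟩
  have c' : Cfg M K U L := c.toCfg
  obtain ⟨-, -, -, hσ1, -⟩ := hK M K U L H c
  have h18 := h18' hG H c.hH E hE s hs B ⟨hBE, hBel, hBc⟩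
  have h17 := Cfsg.Agent.S1417.result hG H c.hH s hs B ⟨hBE.trans hE.1, hBel, hBc⟩
  have hfix := hB M K U L c' K₀ H hK₀ hK₀p c.hH (hK₀.trans c.hKH) c.hnM c.hnL
  have hK₀1 : K₀ ≠ ⊥ := card_prime_ne_bot hK₀p rfl
  have hB1 : B ≠ ⊥ := by
    rintro rfl
    rw [Subgroup.card_bot] at hBc
    have := hsp.one_lt
    nlinarith
  by_cases hsp' : Nat.card K₀ = s
  · -- `K₀ ≤ B`
    have hle : K₀ ≤ B := h18.1.2 K₀ hK₀E hsp'
    apply hK₀1
    rw [eq_bot_iff, ← hbot]
    intro z hz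
    refine mem_inf.mpr ⟨hle hz, ?_⟩
    rw [mem_centralizer_iff]
    intro w hw
    exact congrArg Subtype.val (hBel.1.is_comm.comm (⟨w, hle hw⟩ : B) ⟨z, hle hz⟩)
  · apply hσ1
    rw [eq_bot_iff, ← h17.2.2.2.1]
    refine le_inf le_rfl ?_
    have hsup : B ⊔ K₀ ≤ E := sup_le hBE hK₀E
    apply Helper24.BG13F.frob_centralizes hB1 hK₀1 (hK₀E.trans h18.1.1)
    · intro e he he1 u hu heu
      have : u ∈ B ⊓ centralizer (K₀ : Set G) := by
        refine mem_inf.mpr ⟨hu, ?_⟩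
        rw [centralizer_eq_of_card_prime hK₀p rfl he he1, Helper20.BG14.mem_centralizer_singleton]
        exact heu
      rw [hbot, mem_bot] at this
      exact this
    · exact (hBE.trans hE.1).trans (sc_norm H)
    · exact (hK₀E.trans hE.1).trans (sc_norm H)
    · exact MS_solvable hG (fun h => c.hH.1 (top_le_iff.mp (h ▸ sc_le H)))
    · exact (Nat.Coprime.coprime_dvd_left (Subgroup.card_dvd_of_le hsup)
        (sc_compl_coprime hG c.hH hE)).symm
    · rw [hfix]
      exact bot_le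

end Cfsg.Agent.Lib.Helper25.P2
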