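/-
Helper library (helper25 farm for S1376, pieces T1 T2 T3 by helper52).
-/
import Cfsg.Agent.Lib.Helper25.P2.Defs2
import Cfsg.Agent.Lib.Helper25.P2.Rows
import Cfsg.Agent.Lib.Helper25.P2.G1
import Cfsg.Agent.Lib.Helper25.P2.X
import Cfsg.Agent.Lib.Helper25.P2.F
import Cfsg.Agent.Lib.Helper25.NilpotentCoprime
import Cfsg.Agent.S1419

set_option autoImplicit false
set_option linter.unusedSimpArgs false
set_option linter.unusedVariables false
set_option linter.style.haveILetI false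
set_option linter.unusedSectionVars false

namespace Cfsg.Agent.Lib.Helper25.P2

open Subgroup Cfsg
open Cfsg.Agent.Lib
open Cfsg.Agent.Lib.Helper24 Cfsg.Agent.Lib.Helper34 Cfsg.Agent.Lib.Helper31.BG11
open Cfsg.Agent.Lib.Helper34.BG13 Cfsg.Agent.Lib.Helper34.BG16
open Cfsg.Agent.Lib.Helper52.BG14
open scoped commutatorElement

universe u

variable {G : Type u} [Group G] [Finite G]

/-- A complement `E ≥ K` of `H_σ`, contained in `L`. -/
theorem HC.exists_compl52 (hG : IsMinSimpleOddOrder G) {M K U L H : Subgroup G}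
    (c : HC M K U L H) : ∃ E, IsComplIn E (sigmaCore H) H ∧ K ≤ E ∧ E ≤ L := by
  have hU := hU_of hG
  obtain ⟨hκ, hσ, -, -, hscL⟩ := hK hG M K U L H c
  obtain ⟨hkp, hkL, hkU, hKσ⟩ := c.toCfg.K_facts hG
  have hkH : Nat.card K ∉ sigma H := fun h => (hσ _ h).2 hkL
  obtain ⟨E, hE, hKE⟩ := exists_compl_ge hG hU c.hH c.hKH (by
    intro r hr hd
    rwa [(Nat.prime_dvd_prime_iff_eq hr hkp).1 hd])
  exact ⟨E, hE, hKE, (c.compl_le hG hκ hE hKE).1⟩

theorem qT1 (hG : IsMinSimpleOddOrder G) : QT1 G := by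
  intro M K U L H x c t ht P hP
  have hU := hU_of hG
  haveI : Fact t.Prime := ⟨ht.1⟩
  have c' : HC M K U L H := c.toHC
  have c'' : Cfg M K U L := c'.toCfg
  obtain ⟨hκ, hσ, -, hsc1, hscL⟩ := hK hG M K U L H c'
  obtain ⟨hkp, hkL, hkU, hKσ⟩ := c''.K_facts hG
  obtain ⟨E, hE, hKE, hEL⟩ := c'.exists_compl52 hG
  obtain ⟨A, hA⟩ := exists_T2 hE ht
  have hbot : A ⊓ centralizer (sigmaCore H : Set G) = ⊥ := by
    rw [eq_bot_iff_forall]
    intro a ha
    by_contra ha1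
    obtain ⟨haA, haC⟩ := mem_inf.1 ha
    have haM : a ∈ M := by
      apply c.hxM
      rw [mem_centralizer_singleton_iff]
      exact (mem_centralizer_iff.1 haC x c.hx).symm
    have haUK : a ∈ U ⊔ K := by
      rw [← (P2.hE hG M K U L H c').1]
      exact mem_inf.2 ⟨haM, hE.1 (hA.le haA)⟩
    rw [← SetLike.mem_coe, Subgroup.coe_mul_of_right_le_normalizer_left _ _ c.hKU.normal] at haUK
    obtain ⟨u, hu, k, hk, rfl⟩ := Set.mem_mul.1 haUK
    have hkL' : k ∈ L := sc_le L (hKσ hk)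
    have huL : u ∈ U ⊓ L := by
      refine mem_inf.2 ⟨hu, ?_⟩
      have := mul_mem (hEL (hA.le haA)) (inv_mem hkL')
      simpa using this
    rw [(hC0 hG M K U L c'').2.1, mem_bot] at huL
    rw [huL, one_mul] at ha1 haC
    have h1 := hB hG M K U L c'' K H le_rfl hkp c.hH c.hKH c.hnM c.hnL
    apply hsc1
    rw [← h1, centralizer_eq_of_card_prime hkp rfl hk ha1]
    refine (inf_eq_left.2 ?_).symm
    intro y hy
    rw [mem_centralizer_singleton_iff]
    exact mem_centralizer_iff.1 haC y hy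
  by_contra hPc
  obtain ⟨a, ha, b, hb, hab⟩ : ∃ a ∈ P, ∃ b ∈ P, a * b ≠ b * a := by
    by_contra hcon
    push Not at hcon
    exact hPc ⟨⟨fun a b => Subtype.ext (hcon a a.2 b b.2)⟩⟩
  have h19 := (Cfsg.Agent.S1419.result hG H c.hH E hE t ht (sylow_not_comm_of hP ha hb hab) A
    ⟨hA.le, hA.elem, hA.card⟩).2.1.1
  rw [hbot, card_bot] at h19
  exact ht.1.one_lt.ne h19

theorem qT2 (hG : IsMinSimpleOddOrder G) (hT1 : QT1 G) : QT2 G := by
  intro M K U L H x c t ht E A D hE hAE hAel hAc hDnil hAD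
  haveI : Fact t.Prime := ⟨ht.1⟩
  obtain ⟨-, ⟨hCA, hMNA, -⟩, -⟩ := h18_of hG H c.hH E hE t ht A ⟨hAE, hAel, hAc⟩
  rw [hMNA] at hCA
  refine le_trans ?_ hCA
  intro y hy
  obtain ⟨u, hu, v, hv, hyuv, ⟨k, hk⟩, hvc⟩ := Helper25.exists_pPart_mul_pPrimePart t ht.1 y
  have huD : u ∈ D := (zpowers_le.2 hy) hu
  have hvD : v ∈ D := (zpowers_le.2 hy) hv
  rw [hyuv]
  refine mul_mem ?_ ?_
  · -- `u` and `A` generate a `t`-subgroup of the nilpotent group `D`
    rw [mem_centralizer_iff]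
    intro a ha
    -- the set of `t`-elements of `D` is a subgroup: use a Sylow `t`-subgroup of `D`
    obtain ⟨S, hS, hAS⟩ := exists_isSylowIn_ge hAD (isPGroup_of_exponent hAel.2)
    have hDS : D ≤ normalizer (S : Set G) :=
      le_normalizer_of_sylow_nilpotent le_normalizer hDnil hS
    have huS : u ∈ S := by
      have h1 : zpowers u ≤ S := by
        refine le_of_normal_of_not_dvd hS.1 hDS hS.2.2 (zpowers_le.2 huD) ?_
        exact IsPGroup.of_card (n := k) (by rw [Nat.card_zpowers, hk])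
      exact h1 (mem_zpowers u)
    have hSc := hT1 M K U L H x c t ht S hS.2.1
    have := hSc.is_comm.comm ⟨a, hAS ha⟩ ⟨u, huS⟩
    exact congrArg Subtype.val this
  · rw [mem_centralizer_iff]
    intro a ha
    apply Helper25.commute_of_coprime_orderOf_of_mem hDnil (hAD ha) hvD
    have h1 : orderOf a ∣ t := orderOf_dvd_of_pow_eq_one (hAel.2 a ha)
    exact (Nat.Coprime.coprime_dvd_left h1 hvc.symm)

theorem qT3 (hG : IsMinSimpleOddOrder G) (hT2 : QT2 G) : QT3 G := by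
  intro M K U L H x c hnil
  rw [Set.eq_empty_iff_forall_notMem]
  intro t ht
  have hU := hU_of hG
  haveI : Fact t.Prime := ⟨ht.1⟩
  have c' : HC M K U L H := c.toHC
  have c'' : Cfg M K U L := c'.toCfg
  obtain ⟨hkp, hkL, hkU, hKσ⟩ := c''.K_facts hG
  obtain ⟨E, hE, hKE, hEL⟩ := c'.exists_compl52 hG
  obtain ⟨A, hA⟩ := exists_T2 hE ht
  have hKs1 : Kst M K ≠ ⊥ := Kst_ne_bot hG c.hM c.hKU.hall c.hK1
  have hKsH : IsPiHallOf (kappa L) (Kst M K) L := c.hKstH
  have hKeq : Kst L (Kst M K) = K := c''.hKst'.symm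
  -- `t ∈ σ(L)`
  have htL : t ∈ sigma L :=
    (pG1 hG (hB hG) (hC0 hG) (pX hG (hB hG) (hK hG)) (pF hG (rows hG) (P2.hA hG)) M K U L H c' E hE hKE
      t ht).2
  have hAσ : A ≤ sigmaCore L := le_sc hG hU c.hL htL (hA.le.trans hEL) hA.pg
  have hLE : sigmaCore L ≤ E := hT2 M K U L H x c t ht E A _ hE hA.le hA.elem hA.card hnil hAσ
  obtain ⟨S⟩ : Nonempty (Sylow (Nat.card K) ↥(sigmaCore L)) := inferInstance
  obtain ⟨huq, hSL, -⟩ := P6 hG c.hL hKsH hKs1 hkp (by rw [hKeq]) S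
  have hSH : (S : Subgroup ↥(sigmaCore L)).map (sigmaCore L).subtype ≤ H :=
    ((map_subtype_le _).trans hLE).trans hE.1
  have := eq_of_inUniqueMaximal huq c.hL hSL c.hH hSH
  apply c.hnL 1
  rw [this]
  exact (cj_one L).symm

end Cfsg.Agent.Lib.Helper25.P2
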