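/-
Helper library (helper25 farm for S1376, piece T4 by helper52): `τ₂(H) = ∅` if `L_σ` is not nilpotent.
-/
import Cfsg.Agent.Lib.Helper25.P2.Defs2
import Cfsg.Agent.Lib.Helper25.P2.Rows
import Cfsg.Agent.Lib.Helper23.BGU5
import Cfsg.Agent.Lib.Helper87.BG14.J
import Cfsg.Agent.Lib.Helper31.BG11c
import Cfsg.Agent.S1437
import Cfsg.Agent.S1355

set_option autoImplicit false
set_option linter.unusedSimpArgs false
set_option linter.unusedVariables false
set_option linter.style.haveILetI false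
set_option linter.unusedSectionVars false

namespace Cfsg.Agent.Lib.Helper25.P2

open Subgroup Cfsg
open Cfsg.Agent.Lib
open Cfsg.Agent.Lib.Helper24 Cfsg.Agent.Lib.Helper34 Cfsg.Agent.Lib.Helper31.BG11
open Cfsg.Agent.Lib.Helper34.BG13 Cfsg.Agent.Lib.Helper34.BG16
open Cfsg.Agent.Lib.Helper52.BG14
open scoped commutatorElement

universe u

variable {G : Type u} [Group G] [Finite G]

/-- `K` is normal in every complement `E ≥ K` of `H_σ` if `H` has `|K|`-rank one. -/
theorem HC.compl_le_normalizer52 (hG : IsMinSimpleOddOrder G) {M K U L H E : Subgroup G}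
    (c : HC M K U L H) (hκ : kappa H = ∅) (hE : IsComplIn E (sigmaCore H) H) (hKE : K ≤ E)
    (h1 : PRankLE (Nat.card K) 1 H) : E ≤ normalizer (K : Set G) := by
  obtain ⟨hkp, hkL, hkU, hKσ⟩ := c.toCfg.K_facts hG
  have hcen := c.comm_le_centralizer hG hκ hE hKE h1
  have hKab : K ≤ centralizer (K : Set G) :=
    le_centralizer_iff_isMulCommutative.2 (elemAb_of_card_prime hkp rfl).1
  rw [le_normalizer_iff]
  intro e he a ha
  by_contra hnot
  have h2 : e * a * e⁻¹ = ⁅e, a⁆ * a := by rw [commutatorElement_def]; group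
  have h3 : e * a * e⁻¹ ∈ centralizer (K : Set G) := by
    rw [h2]
    exact mul_mem (hcen (commutator_mem_commutator he (hKE ha))) (hKab ha)
  have h4 : (e * a * e⁻¹) ^ Nat.card K = 1 := by
    rw [conj_pow]
    have := pow_card_eq_one' (G := K) (x := ⟨a, ha⟩)
    have h5 : a ^ Nat.card K = 1 := congrArg Subtype.val this
    rw [h5]
    group
  obtain ⟨h5, h6⟩ := elemAb_sq_of hkp rfl h3 h4 hnot
  refine not_pRankLE_of_le (F := K ⊔ zpowers (e * a * e⁻¹)) ?_ h5.1 h5.2 ?_ h1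
  · refine sup_le (hKE.trans hE.1) (zpowers_le.2 (hE.1 ?_))
    exact mul_mem (mul_mem he (hKE ha)) (inv_mem he)
  · rw [h6]
    exact Nat.pow_lt_pow_right hkp.one_lt (by norm_num)

theorem qT4 (hG : IsMinSimpleOddOrder G) (hT2 : QT2 G) (hN : QN G) : QT4 G := by
  intro M K U L H x c hnil
  rw [Set.eq_empty_iff_forall_notMem]
  intro t ht
  have hU := hU_of hG
  haveI : Fact t.Prime := ⟨ht.1⟩
  have c' : HC M K U L H := c.toHC
  have c'' : Cfg M K U L := c'.toCfg
  obtain ⟨hκ, hσ, -, -, hscL⟩ := hK hG M K U L H c'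
  obtain ⟨hkp, hkL, hkU, hKσ⟩ := c''.K_facts hG
  haveI : Fact (Nat.card K).Prime := ⟨hkp⟩
  have hKs1 : Kst M K ≠ ⊥ := Kst_ne_bot hG c.hM c.hKU.hall c.hK1
  have hKsH : IsPiHallOf (kappa L) (Kst M K) L := c.hKstH
  have hKeq : sigmaCore L ⊓ centralizer ((Kst M K : Subgroup G) : Set G) = K := c''.hKst'.symm
  have hKscyc : IsCyclic (Kst M K) := (Cfsg.Agent.S1364.result hG M c.hM K U c.hKU c.hK1).1
  obtain ⟨⟨Us, hUs⟩, -⟩ := Cfsg.Agent.S1352.result hG L c.hL (Kst M K) hKscyc hKsH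
  have hne : fittingHallOf L ≠ sigmaCore L := by
    intro h
    apply hnil
    rw [← h]
    exact Helper23U.fittingHallOf_nilpotent L
  have h37 := Cfsg.Agent.S1437.result hG L c.hL (Kst M K) Us hUs hne
  rw [hKeq] at h37
  obtain ⟨hUs1, -, hqp, -, -, hβ, Q, hQF, hLQ, hQp, hQi, hall⟩ := h37
  -- the primes
  have hid : IsIdealPrime (Nat.card K) G := hβ.2
  have hnid : ∀ s ∈ tau2 H, ¬ IsIdealPrime s G := by
    intro s hs
    haveI : Fact s.Prime := ⟨hs.1⟩
    exact (Cfsg.Agent.S1408.result hG H c.hH s hs.2.1 hs.2.2.1 hs.2.2.2).1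
  have htp : t ≠ Nat.card K := fun h => hnid t ht (h ▸ hid)
  have hkH : Nat.card K ∉ sigma H := fun h => (hσ _ h).2 hkL
  have h1 : PRankLE (Nat.card K) 1 H :=
    (tau2_or_rank_one hG hU c.hH hkp hkH).resolve_left (fun h => hnid _ h hid)
  -- the complement
  obtain ⟨E, hE, hKE⟩ := exists_compl_ge hG hU c.hH c.hKH (by
    intro r hr hd
    rwa [(Nat.prime_dvd_prime_iff_eq hr hkp).1 hd])
  obtain ⟨hEL, -⟩ := c'.compl_le hG hκ hE hKE
  obtain ⟨A, hA⟩ := exists_T2 hE ht
  have hLsup : L ≤ Kst M K ⊔ sigmaCore L := by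
    intro l hl
    obtain ⟨a, ha, b, hb, rfl⟩ := hUs.compl.2.2.2 l hl
    rw [hUs1, mem_bot] at ha
    rw [ha, one_mul]
    exact hb
  have htL : t ∈ sigma L := by
    by_contra htσ
    have hAL : A ≤ L := hA.le.trans hEL
    have hd : t ∣ Nat.card L := hA.dvd_card.trans (card_dvd_of_le hAL)
    have hd2 : t ∣ Nat.card (Kst M K) * Nat.card (sigmaCore L) :=
      (hd.trans (card_dvd_of_le hLsup)).trans (Helper1.card_sup_dvd (hKsH.1.trans (sc_norm L)))
    rcases (Nat.Prime.dvd_mul ht.1).1 hd2 with h | h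
    · refine not_pRankLE_of_le hAL hA.elem.1 hA.elem.2 ?_
        (Helper20.BG14.kappa_rank_one (hKsH.2.1 t ht.1 h))
      rw [hA.card]
      exact Nat.pow_lt_pow_right ht.1.one_lt (by norm_num)
    · exact htσ (sc_primes L ht.1 h)
  have hAσ : A ≤ sigmaCore L := le_sc hG hU c.hL htL (hA.le.trans hEL) hA.pg
  have hsolv : Group.IsSolvable (sigmaCore L) := Helper52.BG15.sc_solvable hG c.hL
  obtain ⟨D, hD, hAD⟩ := Helper87.BG14.j_hall_ge (π := {q | q ≠ Nat.card K}) hsolv hAσ (by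
    intro r hr hd
    rw [hA.card] at hd
    rw [(Nat.prime_dvd_prime_iff_eq hr ht.1).1 (hr.dvd_of_dvd_pow hd)]
    exact htp)
  have hQσ : Q ≤ sigmaCore L := hQF.trans (Cfsg.Agent.S1355.result hG L c.hL).2.1
  have hpD : ¬ Nat.card K ∣ Nat.card D := fun h => hD.2.1 _ hkp h rfl
  obtain ⟨n, hn⟩ := IsPGroup.iff_card.1 hQp
  have hcop : (Nat.card Q).Coprime (Nat.card D) := by
    rw [hn]
    exact Nat.Coprime.pow_left _ ((Nat.Prime.coprime_iff_not_dvd hkp).2 hpD)
  have hQD : IsComplIn Q D (sigmaCore L) := by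
    refine isComplIn_of_card hQσ hD.1 hcop ?_
    have e1 := Helper23.card_mul_relIndex hQσ
    have e2 := Helper23.card_mul_relIndex hD.1
    -- `|D|` divides `|L_σ : Q|` and conversely
    have d1 : Nat.card D ∣ Q.relIndex (sigmaCore L) := by
      apply hcop.symm.dvd_of_dvd_mul_left
      rw [e1]
      exact card_dvd_of_le hD.1
    have d2 : Q.relIndex (sigmaCore L) ∣ Nat.card D := by
      have hc2 : (Q.relIndex (sigmaCore L)).Coprime (D.relIndex (sigmaCore L)) := by
        apply Nat.coprime_of_dvd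
        intro r hr hr1 hr2
        by_cases hrk : r = Nat.card K
        · exact hQi (hrk ▸ hr1)
        · exact hD.2.2 r hr hrk hr2
      apply hc2.dvd_of_dvd_mul_right
      rw [e2, ← e1]
      exact Dvd.intro_left _ rfl
    rw [Nat.dvd_antisymm d1 d2, e1]
  obtain ⟨hDnil, hLQ0, hQ0lt, hQcard, hQcomm, hnone⟩ := hall D hQD
  have hDE : D ≤ E := hT2 M K U L H x c t ht E A D hE hA.le hA.elem hA.card hDnil hAD
  have hEK := c'.compl_le_normalizer52 hG hκ hE hKE h1
  have hKQ : K ≤ Q := le_of_normal_of_not_dvd hQσ ((sc_le L).trans hLQ) hQi hKσ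
    (IsPGroup.of_card (n := 1) (by rw [pow_one]))
  -- `X = K Q₀`
  have hXQ : K ⊔ (Q ⊓ centralizer (D : Set G)) ≤ Q := sup_le hKQ inf_le_left
  have hKsK : Kst M K ≤ normalizer (K : Set G) :=
    (inf_le_right : Kst M K ≤ centralizer (K : Set G)).trans (Subgroup.centralizer_le_normalizer _)
  have hLX : L ≤ normalizer ((K ⊔ (Q ⊓ centralizer (D : Set G)) : Subgroup G) : Set G) := by
    refine hLsup.trans (sup_le ?_ ?_)
    · exact le_normalizer_sup' hKsK (hKsH.1.trans hLQ0)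
    · intro l hl
      obtain ⟨a, ha, b, hb, rfl⟩ := hQD.2.2.2 l hl
      refine mul_mem ?_ ?_
      · have : Q ≤ normalizer ((K ⊔ (Q ⊓ centralizer (D : Set G)) : Subgroup G) : Set G) := by
          rw [le_normalizer_iff]
          intro b hb y hy
          have e : b * y * b⁻¹ = (b * y * b⁻¹ * y⁻¹) * y := by group
          rw [e]
          exact mul_mem (mem_sup_right (hQcomm b hb y (hXQ hy)).2) hy
        exact this ha
      · exact le_normalizer_sup' (hDE.trans hEK) ((hD.1.trans (sc_le L)).trans hLQ0) hb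
  have hXlt : K ⊔ (Q ⊓ centralizer (D : Set G)) < Q := by
    refine lt_of_le_of_ne hXQ ?_
    intro h
    have hd := Helper1.card_sup_dvd ((hKσ.trans (sc_le L)).trans hLQ0)
    rw [h, hQcard] at hd
    have hle := Nat.le_of_dvd (Nat.mul_pos Nat.card_pos Nat.card_pos) hd
    have h2 : Nat.card K ^ 2 ≤ Nat.card K ^ Nat.card (Kst M K) :=
      Nat.pow_le_pow_right hkp.pos hqp.two_le
    have h3 : 0 < Nat.card ↥(Q ⊓ centralizer (D : Set G)) := Nat.card_pos
    have h4 := hkp.one_lt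
    nlinarith
  have hXeq : ¬ (Q ⊓ centralizer (D : Set G) < K ⊔ (Q ⊓ centralizer (D : Set G))) :=
    fun h => hnone _ h hXlt hLX
  have hKQ0 : K ≤ Q ⊓ centralizer (D : Set G) := by
    by_contra hcon
    apply hXeq
    refine lt_of_le_of_ne le_sup_right ?_
    intro h
    apply hcon
    rw [h]
    exact le_sup_left
  have hfin := hN M K U L c'' Q D hkp hQp hQi hLQ hQD hLQ0 (hKQ0.trans inf_le_right)
  exact absurd (inf_eq_left.2 hfin) hQ0lt.ne

end Cfsg.Agent.Lib.Helper25.P2
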